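import Cfsg.Agent.MinSimple.Geo
import Cfsg.Agent.MinSimple.Basic
import Cfsg.Agent.Lib.NormalAbelian

/-!
# The point-line geometry of a flag `(z, V)`, `|V| = 4`, without solvability

`Ln T V z`: `z` is an involution of the four-group `V`, `T` is a common Sylow 2-subgroup of `C_G(z)` and `N_G(V)`,
`Ω₁Z(T) = ⟨z⟩`, `N_G(V)` is transitive on `V#`, and `G` has characteristic 2 type.  This is
`MinSimple.Geo.Geo` without the solvability of the 2-local subgroups and without the condition that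
`⟨N_G(V), C_G(z)⟩` is not local.
-/

set_option autoImplicit false
set_option linter.style.haveILetI false

namespace Cfsg.Agent.Omega.CaseL

open Subgroup Cfsg Cfsg.Agent.ZN Cfsg.Agent.MinSimple.Geo
open Cfsg.Agent.ZN.Block (conj_mem_of_normalizer conj_mem_of_normalizer' le_normalizer_of_forall
  mem_normalizer_of)

universe u

variable {G : Type u} [Group G]

/-- A flag `(z, V)` with a common Sylow 2-subgroup `T`. -/
structure Ln (T V : Subgroup G) (z : G) : Prop where
  charTwo : IsCharacteristicTwoType G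
  two : IsPGroup 2 T
  T_le : T ≤ centralizer ({z} : Set G)
  T_syl : ¬ 2 ∣ T.relIndex (centralizer ({z} : Set G))
  V_le : V ≤ T
  T_norm : T ≤ normalizer (V : Set G)
  T_syl' : ¬ 2 ∣ T.relIndex (normalizer (V : Set G))
  card_V : Nat.card V = 4
  sq : ∀ v ∈ V, v * v = 1
  z_mem : z ∈ V
  z_ne : z ≠ 1
  trans : ∀ v ∈ V, v ≠ 1 → ∃ g ∈ normalizer (V : Set G), g * z * g⁻¹ = v
  soc : ∀ t ∈ T, t * t = 1 → (∀ s ∈ T, s * t = t * s) → t = 1 ∨ t = z

theorem Ln.of_geo {T V : Subgroup G} {z : G} (h : MinSimple.Geo.Geo T V z) : Ln T V z where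
  charTwo := h.charTwo
  two := h.two
  T_le := h.T_le
  T_syl := h.T_syl
  V_le := h.V_le
  T_norm := h.T_norm
  T_syl' := h.T_syl'
  card_V := h.card_V
  sq := h.sq
  z_mem := h.z_mem
  z_ne := h.z_ne
  trans := h.trans
  soc := h.soc

theorem lines_cj (V : Subgroup G) (g x : G) : lines (cj g V) x = lines V x := by
  ext L
  constructor
  · rintro ⟨⟨k, rfl⟩, hx⟩
    exact ⟨⟨k * g, cj_cj _ _ _⟩, hx⟩
  · rintro ⟨⟨k, rfl⟩, hx⟩
    refine ⟨⟨k * g⁻¹, ?_⟩, hx⟩
    rw [cj_cj, inv_mul_cancel_right]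

/-- `ws V x` depends only on the class of `V` -/
theorem ws_cj (V : Subgroup G) (g x : G) : ws (cj g V) x = ws V x := by
  unfold ws
  rw [lines_cj]

/-- a conjugate in a Sylow 2-subgroup -/
theorem exists_cj_le_of_sylow [Finite G] {C T A : Subgroup G} (_ : T ≤ C) (hT : IsPGroup 2 T)
    (hs : ¬ 2 ∣ T.relIndex C) (hAC : A ≤ C) (hA : IsPGroup 2 A) : ∃ c ∈ C, cj c A ≤ T := by
  haveI : Fact (Nat.Prime 2) := ⟨Nat.prime_two⟩
  have hT' : IsPGroup 2 (T.subgroupOf C) := hT.comap_of_injective _ C.subtype_injective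
  have hA' : IsPGroup 2 (A.subgroupOf C) := hA.comap_of_injective _ C.subtype_injective
  obtain ⟨Q, hQ⟩ := hA'.exists_le_sylow
  obtain ⟨g, hg⟩ := MulAction.exists_smul_eq C Q (hT'.toSylow hs)
  refine ⟨g, g.2, ?_⟩
  rintro _ ⟨x, hx, rfl⟩
  have h1 : (⟨x, hAC hx⟩ : C) ∈ (Q : Subgroup C) := hQ (mem_subgroupOf.mpr hx)
  have h2 : (MulAut.conj g) ⟨x, hAC hx⟩ ∈ ((g • Q : Sylow 2 C) : Subgroup C) := by
    rw [Sylow.smul_def]
    exact Subgroup.smul_mem_pointwise_smul _ (MulAut.conj g) _ h1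
  rw [hg] at h2
  exact mem_subgroupOf.mp h2

namespace Ln

variable {T V : Subgroup G} {z : G}

theorem zz (h : Ln T V z) : z * z = 1 := h.sq z h.z_mem

theorem comm (h : Ln T V z) {a b : G} (ha : a ∈ V) (hb : b ∈ V) : a * b = b * a := by
  have h1 := h.sq _ (mul_mem ha hb)
  have h2 := h.sq a ha
  have h3 := h.sq b hb
  calc a * b = (a * b)⁻¹ := (inv_eq_self h1).symm
    _ = b⁻¹ * a⁻¹ := by group
    _ = b * a := by rw [inv_eq_self h2, inv_eq_self h3]

theorem inv_eq (h : Ln T V z) {a : G} (ha : a ∈ V) : a⁻¹ = a := inv_eq_self (h.sq a ha)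

theorem exists_y (h : Ln T V z) : ∃ y ∈ V, y ≠ 1 ∧ y ≠ z := by
  by_contra hcon
  push Not at hcon
  have : (V : Set G) ⊆ {1, z} := by
    intro v hv
    by_cases h1 : v = 1
    · exact Or.inl h1
    · exact Or.inr (hcon v hv h1)
  have h2 := Set.ncard_le_ncard this (Set.toFinite _)
  have h3 : (V : Set G).ncard = 4 := by rw [← h.card_V]; rfl
  have h4 : ({1, z} : Set G).ncard = 2 := Set.ncard_pair (Ne.symm h.z_ne)
  omega

/-- the four elements of `V` -/
theorem four (h : Ln T V z) {p q : G} (hp : p ∈ V) (hq : q ∈ V) (hp1 : p ≠ 1) (hq1 : q ≠ 1)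
    (hpq : p ≠ q) {v : G} (hv : v ∈ V) : v = 1 ∨ v = p ∨ v = q ∨ v = p * q := by
  have hfin : Finite V := Nat.finite_of_card_ne_zero (by rw [h.card_V]; norm_num)
  have hpq1 : p * q ≠ 1 := fun e => hpq (by
    rw [mul_eq_one_iff_eq_inv.mp e, h.inv_eq hq])
  have hpqp : p * q ≠ p := fun e => hq1 (by simpa using e)
  have hpqq : p * q ≠ q := fun e => hp1 (by simpa using e)
  have h1 : ({1, p, q, p * q} : Set G) ⊆ (V : Set G) := by
    rintro x (rfl | rfl | rfl | rfl)
    · exact V.one_mem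
    · exact hp
    · exact hq
    · exact V.mul_mem hp hq
  have h2 : ({1, p, q, p * q} : Set G).ncard = 4 := by
    rw [Set.ncard_insert_of_notMem, Set.ncard_insert_of_notMem, Set.ncard_pair (Ne.symm hpqq)]
    · rintro (e | e)
      · exact hpq e
      · exact hpqp e.symm
    · rintro (e | e | e)
      · exact hp1 e.symm
      · exact hq1 e.symm
      · exact hpq1 e.symm
  have h3 : (V : Set G).ncard = 4 := by rw [← h.card_V]; rfl
  have h4 : ({1, p, q, p * q} : Set G) = V := Set.eq_of_subset_of_ncard_le h1 (by rw [h2, h3])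
    (Set.toFinite _)
  have : v ∈ ({1, p, q, p * q} : Set G) := by rw [h4]; exact hv
  simpa using this

/-- conjugation by a centralizing-normalizing element -/
theorem conj_cases (h : Ln T V z) {p q g : G} (hp : p ∈ V) (hq : q ∈ V) (hp1 : p ≠ 1) (hgp : g * p = p * g)
    (hg : g ∈ normalizer (V : Set G)) : g * q * g⁻¹ = q ∨ g * q * g⁻¹ = p * q := by
  have hq' : g * q * g⁻¹ ∈ V := (mem_normalizer_iff.mp hg q).mp hq
  by_cases hq1 : q = 1
  · left; rw [hq1]; group
  by_cases hpq : q = p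
  · left; rw [hpq, hgp]; group
  have hn1 : g * q * g⁻¹ ≠ 1 := fun e => hq1 (by
    have : q = g⁻¹ * (g * q * g⁻¹) * g := by group
    rw [this, e]; group)
  have hnp : g * q * g⁻¹ ≠ p := fun e => hpq (by
    have : q = g⁻¹ * (g * q * g⁻¹) * g := by group
    rw [this, e, mul_assoc, ← hgp]; group)
  rcases h.four hp hq hp1 hq1 (Ne.symm hpq) hq' with e | e | e | e
  · exact absurd e hn1
  · exact absurd e hnp
  · exact Or.inl e
  · exact Or.inr e

theorem z_comm (_ : Ln T V z) {c : G} (hc : c ∈ centralizer ({z} : Set G)) : c * z = z * c :=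
  mem_centralizer_singleton_iff.mp hc

/-- conjugate situation -/
theorem conj (h : Ln T V z) (g : G) : Ln (cj g T) (cj g V) (g * z * g⁻¹) where
  charTwo := h.charTwo
  two := h.two.map _
  T_le := by rw [← cj_centralizer_singleton]; exact cj_mono h.T_le
  T_syl := by rw [← cj_centralizer_singleton, relIndex_cj]; exact h.T_syl
  V_le := cj_mono h.V_le
  T_norm := by rw [← cj_normalizer]; exact cj_mono h.T_norm
  T_syl' := by rw [← cj_normalizer, relIndex_cj]; exact h.T_syl'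
  card_V := by rw [card_cj]; exact h.card_V
  sq := by
    intro v hv
    rw [mem_cj] at hv
    have := h.sq _ hv
    have e : v * v = g * (g⁻¹ * v * g * (g⁻¹ * v * g)) * g⁻¹ := by group
    rw [e, this]; group
  z_mem := conj_mem_cj h.z_mem
  z_ne := fun e => h.z_ne (by
    have : z = g⁻¹ * (g * z * g⁻¹) * g := by group
    rw [this, e]; group)
  trans := by
    intro v hv hv1
    rw [mem_cj] at hv
    obtain ⟨k, hk, hk2⟩ := h.trans _ hv (fun e => hv1 (by
      have : v = g * (g⁻¹ * v * g) * g⁻¹ := by group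
      rw [this, e]; group))
    refine ⟨g * k * g⁻¹, ?_, ?_⟩
    · rw [← cj_normalizer]; exact conj_mem_cj hk
    · calc g * k * g⁻¹ * (g * z * g⁻¹) * (g * k * g⁻¹)⁻¹ = g * (k * z * k⁻¹) * g⁻¹ := by group
        _ = v := by rw [hk2]; group
  soc := by
    intro t ht ht2 htc
    rw [mem_cj] at ht
    have h1 : g⁻¹ * t * g * (g⁻¹ * t * g) = 1 := by
      calc g⁻¹ * t * g * (g⁻¹ * t * g) = g⁻¹ * (t * t) * g := by group
        _ = 1 := by rw [ht2]; group
    rcases h.soc _ ht h1 (fun s hs => by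
      have := htc (g * s * g⁻¹) (conj_mem_cj hs)
      calc s * (g⁻¹ * t * g) = g⁻¹ * (g * s * g⁻¹ * t) * g := by group
        _ = g⁻¹ * (t * (g * s * g⁻¹)) * g := by rw [this]
        _ = g⁻¹ * t * g * s := by group) with e | e
    · left
      have : t = g * (g⁻¹ * t * g) * g⁻¹ := by group
      rw [this, e]; group
    · right
      have : t = g * (g⁻¹ * t * g) * g⁻¹ := by group
      rw [this, e]

/-- each point of `V` is as good as `z` -/
theorem point (h : Ln T V z) {p : G} (hp : p ∈ V) (hp1 : p ≠ 1) :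
    ∃ g ∈ normalizer (V : Set G), g * z * g⁻¹ = p ∧ Ln (cj g T) V p := by
  obtain ⟨g, hg, rfl⟩ := h.trans p hp hp1
  refine ⟨g, hg, rfl, ?_⟩
  have := h.conj g
  rwa [cj_eq_of_mem_normalizer hg] at this

theorem V_mem_lines (h : Ln T V z) : V ∈ lines V z := ⟨⟨1, (cj_one V).symm⟩, h.z_mem⟩

theorem V_le_ws (h : Ln T V z) : V ≤ ws V z := le_ws h.V_mem_lines

/-- the lines through `z` are the `C_G(z)`-conjugates of `V` -/
theorem exists_of_mem_lines (h : Ln T V z) {L : Subgroup G} (hL : L ∈ lines V z) :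
    ∃ c ∈ centralizer ({z} : Set G), L = cj c V := by
  obtain ⟨⟨g, rfl⟩, hz⟩ := hL
  rw [mem_cj] at hz
  obtain ⟨k, hk, hk2⟩ := h.trans _ hz (fun e => h.z_ne (by
    have : z = g * (g⁻¹ * z * g) * g⁻¹ := by group
    rw [this, e]; group))
  refine ⟨g * k, ?_, ?_⟩
  · rw [mem_centralizer_singleton_iff]
    calc g * k * z = g * (k * z * k⁻¹) * k := by group
      _ = z * (g * k) := by rw [hk2]; group
  · rw [← cj_cj, cj_eq_of_mem_normalizer hk]

theorem cj_mem_lines (h : Ln T V z) {c : G} (hc : c ∈ centralizer ({z} : Set G)) : cj c V ∈ lines V z := by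
  refine ⟨⟨c, rfl⟩, ?_⟩
  rw [mem_cj, mul_assoc, ← h.z_comm hc, inv_mul_cancel_left]
  exact h.z_mem

theorem V_le_o2 [Finite G] (h : Ln T V z) : V ≤ o2 (centralizer ({z} : Set G)) := by
  have hQT : o2 (centralizer ({z} : Set G)) ≤ T := o2_le_of_sylow h.T_le h.two h.T_syl
  intro v hv
  refine mem_o2_of_stab h.charTwo h.zz h.z_ne (h.T_le (h.V_le hv)) fun q hq => ?_
  have hqT := hQT hq
  rcases h.conj_cases h.z_mem (inv_mem hv) h.z_ne (h.z_comm (h.T_le hqT)) (h.T_norm hqT) with e | e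
  · have : v * q * v⁻¹ * q⁻¹ = v * (q * v⁻¹ * q⁻¹) := by group
    rw [this, e, mul_inv_cancel]; exact one_mem _
  · have : v * q * v⁻¹ * q⁻¹ = v * (q * v⁻¹ * q⁻¹) := by group
    rw [this, e, ← mul_assoc, h.comm hv h.z_mem, mul_assoc, mul_inv_cancel, mul_one]
    exact mem_zpowers z

theorem ws_le_o2 [Finite G] (h : Ln T V z) : ws V z ≤ o2 (centralizer ({z} : Set G)) := by
  refine ws_le fun L hL => ?_
  obtain ⟨c, hc, rfl⟩ := h.exists_of_mem_lines hL
  have := cj_mono (g := c) h.V_le_o2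
  rwa [cj_eq_of_mem_normalizer (le_normalizer_o2 _ hc)] at this

theorem o2_le_T [Finite G] (h : Ln T V z) : o2 (centralizer ({z} : Set G)) ≤ T :=
  o2_le_of_sylow h.T_le h.two h.T_syl

theorem ws_le_T [Finite G] (h : Ln T V z) : ws V z ≤ T := h.ws_le_o2.trans h.o2_le_T

theorem ws_le_centralizer [Finite G] (h : Ln T V z) : ws V z ≤ centralizer ({z} : Set G) :=
  h.ws_le_T.trans h.T_le

theorem ws_le_normalizer [Finite G] (h : Ln T V z) : ws V z ≤ normalizer (V : Set G) :=
  h.ws_le_T.trans h.T_norm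

/-- `[V, O₂(C_G(z))] ≤ ⟨z⟩` and the same for `ws V z`. -/
theorem comm_mem [Finite G] (h : Ln T V z) {w q : G} (hw : w ∈ ws V z)
    (hq : q ∈ o2 (centralizer ({z} : Set G))) : w * q * w⁻¹ * q⁻¹ ∈ zpowers z := by
  set C := centralizer ({z} : Set G) with hC
  have hzc : ∀ c ∈ C, ∀ y ∈ zpowers z, c * y * c⁻¹ = y := by
    intro c hc y hy
    obtain ⟨n, rfl⟩ := mem_zpowers_iff.mp hy
    have h : Commute c z := mem_centralizer_singleton_iff.mp hc
    rw [(h.zpow_right n).eq, mul_inv_cancel_right]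
  let A : Subgroup G :=
    { carrier := {g | g ∈ C ∧ ∀ q ∈ o2 C, g * q * g⁻¹ * q⁻¹ ∈ zpowers z}
      mul_mem' := by
        rintro a b ⟨ha, ha1⟩ ⟨hb, hb1⟩
        refine ⟨mul_mem ha hb, fun q hq => ?_⟩
        have e : a * b * q * (a * b)⁻¹ * q⁻¹ =
            a * (b * q * b⁻¹ * q⁻¹) * a⁻¹ * (a * q * a⁻¹ * q⁻¹) := by group
        rw [e, hzc a ha _ (hb1 q hq)]
        exact mul_mem (hb1 q hq) (ha1 q hq)
      one_mem' := ⟨one_mem _, fun q _ => by simp⟩
      inv_mem' := by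
        rintro a ⟨ha, ha1⟩
        refine ⟨inv_mem ha, fun q hq => ?_⟩
        have h1 := ha1 (a⁻¹ * q * a) (conj_mem_of_normalizer' (le_normalizer_o2 C) ha hq)
        have e : a * (a⁻¹ * q * a) * a⁻¹ * (a⁻¹ * q * a)⁻¹ = (a⁻¹ * q * a⁻¹⁻¹ * q⁻¹)⁻¹ := by group
        rw [e] at h1
        exact (inv_mem_iff).mp h1 }
  have hVA : ∀ L ∈ lines V z, L ≤ A := by
    intro L hL
    obtain ⟨c, hc, rfl⟩ := h.exists_of_mem_lines hL
    intro x hx
    rw [mem_cj] at hx
    set v := c⁻¹ * x * c with hv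
    have hxv : x = c * v * c⁻¹ := by rw [hv]; group
    have hxC : x ∈ C := by
      rw [hxv]; exact mul_mem (mul_mem hc (h.T_le (h.V_le hx))) (inv_mem hc)
    refine ⟨hxC, fun q hq => ?_⟩
    have hq' := conj_mem_of_normalizer' (le_normalizer_o2 C) hc hq
    have hqT := h.o2_le_T hq'
    have e1 : x * q * x⁻¹ * q⁻¹ = c * (v * (c⁻¹ * q * c) * v⁻¹ * (c⁻¹ * q * c)⁻¹) * c⁻¹ := by
      rw [hxv]; group
    have h2 : v * (c⁻¹ * q * c) * v⁻¹ * (c⁻¹ * q * c)⁻¹ ∈ zpowers z := by
      set r := c⁻¹ * q * c with hr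
      have : v * r * v⁻¹ * r⁻¹ = v * (r * v⁻¹ * r⁻¹) := by group
      rw [this]
      rcases h.conj_cases h.z_mem (inv_mem hx) h.z_ne (h.z_comm (h.T_le hqT)) (h.T_norm hqT) with e | e
      · rw [e, mul_inv_cancel]; exact one_mem _
      · rw [e, ← mul_assoc, h.comm hx h.z_mem, mul_assoc, mul_inv_cancel, mul_one]
        exact mem_zpowers z
    rw [e1, hzc c hc _ h2]
    exact h2
  exact (ws_le hVA hw).2 q hq

theorem comm_cases [Finite G] (h : Ln T V z) {w q : G} (hw : w ∈ ws V z)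
    (hq : q ∈ o2 (centralizer ({z} : Set G))) : w * q = q * w ∨ w * q = z * (q * w) := by
  rcases (mem_zpowers_iff_of_mul_self h.zz).mp (h.comm_mem hw hq) with e | e
  · left
    calc w * q = (w * q * w⁻¹ * q⁻¹) * (q * w) := by group
      _ = q * w := by rw [e, one_mul]
  · right
    calc w * q = (w * q * w⁻¹ * q⁻¹) * (q * w) := by group
      _ = z * (q * w) := by rw [e]

theorem mem_centralizer_V (h : Ln T V z) {g y : G} (hy : y ∈ V) (hy1 : y ≠ 1) (hyz : y ≠ z)
    (h1 : g * z = z * g) (h2 : g * y = y * g) : g ∈ centralizer (V : Set G) := by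
  rw [mem_centralizer_iff]
  intro v hv
  rcases h.four h.z_mem hy h.z_ne hy1 (Ne.symm hyz) hv with rfl | rfl | rfl | rfl
  · simp
  · exact h1.symm
  · exact h2.symm
  · rw [mul_assoc, ← h2, ← mul_assoc, ← h1, mul_assoc]

/-- a nontrivial subgroup of `T` normalized by `T` contains `z` -/
theorem z_mem_of_le [Finite G] (h : Ln T V z) {U : Subgroup G} (hU : U ≤ T)
    (hn : T ≤ normalizer (U : Set G)) (hU1 : U ≠ ⊥) : z ∈ U := by
  haveI : Fact (Nat.Prime 2) := ⟨Nat.prime_two⟩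
  have hT := h.two
  haveI hUn : (U.subgroupOf T).Normal := normal_subgroupOf_of_le_normalizer hn
  haveI : Group.IsNilpotent T := hT.isNilpotent
  have hne : (U.subgroupOf T) ≠ ⊥ := by
    intro e
    apply hU1
    rw [subgroupOf_eq_bot, disjoint_iff, inf_eq_left.mpr hU] at e
    exact e
  have h1 := Lib.NormalAbelian.normal_inf_center_ne_bot (U.subgroupOf T) hne
  obtain ⟨x, hx1⟩ := (Subgroup.ne_bot_iff_exists_ne_one).mp h1
  have hx := x.2
  obtain ⟨k, hk⟩ := hT (x : T)
  have hx1' : (x : T) ≠ 1 := fun e => hx1 (Subtype.ext e)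
  have hex : ∃ n : ℕ, (x : T) ^ 2 ^ n = 1 := ⟨k, hk⟩
  classical
  set n := Nat.find hex with hn'
  have hn1 : (x : T) ^ 2 ^ n = 1 := Nat.find_spec hex
  have hn0 : n ≠ 0 := by
    intro e
    rw [e] at hn1
    apply hx1'
    simpa using hn1
  obtain ⟨m, hm⟩ := Nat.exists_eq_succ_of_ne_zero hn0
  set y := (x : T) ^ 2 ^ m with hy
  have hy1 : y ≠ 1 := Nat.find_min hex (by omega)
  have hy2 : y * y = 1 := by
    rw [hy, ← pow_two, ← pow_mul, ← pow_succ]
    rw [hm] at hn1
    exact hn1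
  have hyU : y ∈ U.subgroupOf T := pow_mem hx.1 _
  have hyc : y ∈ center T := pow_mem hx.2 _
  rcases h.soc y y.2 (by simpa using congrArg Subtype.val hy2)
    (fun s hs => by
      have := mem_center_iff.mp hyc ⟨s, hs⟩
      exact congrArg Subtype.val this) with e | e
  · exact absurd (Subtype.ext e) hy1
  · rw [← e]; exact mem_subgroupOf.mp hyU

/-- Lemma N: a nontrivial normal subgroup of `N_G(V)` contains `z`. -/
theorem z_mem_of_normal [Finite G] (h : Ln T V z) {D : Subgroup G} (hD : D ≤ normalizer (V : Set G))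
    (hN : normalizer (V : Set G) ≤ normalizer (D : Set G)) (h1 : D ≠ ⊥) : z ∈ D := by
  by_contra hz
  have hfact : Fact (Nat.Prime 2) := ⟨Nat.prime_two⟩
  -- `D ∩ T = 1`
  have hDT : D ⊓ T = ⊥ := by
    by_contra hne
    have hnorm : T ≤ normalizer ((D ⊓ T : Subgroup G) : Set G) := by
      refine le_normalizer_of_forall fun t ht d hd => ?_
      exact ⟨conj_mem_of_normalizer hN (h.T_norm ht) hd.1, T.mul_mem (T.mul_mem ht hd.2) (T.inv_mem ht)⟩
    exact hz (h.z_mem_of_le inf_le_right hnorm hne).1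
  have hodd : Odd (Nat.card D) := by
    rw [← Nat.not_even_iff_odd, even_iff_two_dvd]
    intro hd
    obtain ⟨d, hd2⟩ := exists_prime_orderOf_dvd_card' 2 hd
    have hdd : (d : G) * d = 1 := by
      have h6 : d ^ 2 = 1 := by rw [← hd2]; exact pow_orderOf_eq_one d
      have h7 := congrArg (Subtype.val) h6
      simpa [pow_two] using h7
    have hd1 : (d : G) ≠ 1 := by
      intro e
      have : d = 1 := Subtype.ext e
      rw [this, orderOf_one] at hd2
      omega
    obtain ⟨c, hc, hcT⟩ := exists_cj_le_of_sylow h.T_norm h.two h.T_syl'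
      (A := zpowers (d : G)) (by simpa using hD d.2) (isPGroup_zpowers hdd)
    have h3 : c * d * c⁻¹ ∈ D ⊓ T :=
      ⟨conj_mem_of_normalizer hN hc d.2, hcT (conj_mem_cj (mem_zpowers _))⟩
    rw [hDT, mem_bot] at h3
    apply hd1
    have : (d : G) = c⁻¹ * (c * d * c⁻¹) * c := by group
    rw [this, h3]; group
  refine h1 (Cfsg.Agent.MinSimple.Basic.eq_bot_of_odd (X := normalizer (V : Set G)) ?_ hD hN hodd)
  refine inf_centralizer_o2_le h.charTwo ⟨V, ?_, ?_, rfl⟩
  · exact h.two.to_le h.V_le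
  · intro e
    have := h.z_mem
    rw [e, mem_bot] at this
    exact h.z_ne this

end Ln

end Cfsg.Agent.Omega.CaseL
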