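import Cfsg.Agent.Omega.CaseL.Line

/-!
# Two types of lines with `W₁`, `W₂` abelian: steps (2)-(7)

`b0 V W p = C_{ws W p}(V)`.
* `phi_inj`, `phi_surj`: for a mover `b ∈ ws W p`, `c ↦ [b, c]` is a bijection `b0 q → b0 p`;
* `inter`: `ws V q ∩ ws W p = ⟨p⟩` for distinct points of `V`;
* `comm_cent`: `[ws V u, ws W v]` centralizes `U = b0 p × b0 q`;
* `cent_u`: `C_G(U) = U`;
* `cent_ab`: `C_G(ws V z ws W z) = ws V z ∩ ws W z`;
* `f_eq`: `ws V z ∩ ws W z = ⟨z⟩`.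
-/

set_option autoImplicit false
set_option linter.style.haveILetI false
set_option linter.unusedSectionVars false

namespace Cfsg.Agent.Omega.CaseL

open Subgroup Cfsg Cfsg.Agent.ZN Cfsg.Agent.MinSimple.Geo
open Cfsg.Agent.ZN.Block (conj_mem_of_normalizer conj_mem_of_normalizer' le_normalizer_of_forall
  mem_normalizer_of)

universe u

variable {G : Type u} [Group G]

/-- `C_{ws W p}(V)` -/
def b0 (V W : Subgroup G) (p : G) : Subgroup G := ws W p ⊓ centralizer (V : Set G)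

theorem mem_b0 {V W : Subgroup G} {p x : G} : x ∈ b0 V W p ↔ x ∈ ws W p ∧ x ∈ centralizer (V : Set G) :=
  mem_inf

theorem comm_inv_of {a b : G} (h : a * b = b * a) : a * b⁻¹ = b⁻¹ * a := by
  calc a * b⁻¹ = b⁻¹ * (b * a) * b⁻¹ := by group
    _ = b⁻¹ * (a * b) * b⁻¹ := by rw [h]
    _ = b⁻¹ * a := by group

theorem inv_comm_of {a b : G} (h : a * b = b * a) : a⁻¹ * b = b * a⁻¹ := (comm_inv_of h.symm).symm

theorem mul_comm_of {a b c : G} (h1 : a * c = c * a) (h2 : b * c = c * b) : a * b * c = c * (a * b) := by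
  rw [mul_assoc, h2, ← mul_assoc, h1, mul_assoc]

theorem comm_mul_of {a b c : G} (h1 : c * a = a * c) (h2 : c * b = b * c) : c * (a * b) = a * b * c :=
  (mul_comm_of h1.symm h2.symm).symm

theorem conj_eq_of_comm {a b : G} (h : a * b = b * a) : a * b * a⁻¹ = b := by rw [h]; group

theorem comm_of_conj_eq {a b : G} (h : a * b * a⁻¹ = b) : a * b = b * a := by
  calc a * b = (a * b * a⁻¹) * a := by group
    _ = b * a := by rw [h]

namespace Pair

variable {T V W : Subgroup G} {z : G} [Finite G]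

section points

variable {p q : G}

theorem V_comm (_ : Pair T V W z) {v c : G} (hv : v ∈ V) (hc : c ∈ centralizer (V : Set G)) :
    v * c = c * v := mem_centralizer_iff.mp hc v hv

theorem V_le_centralizer (h : Pair T V W z) : V ≤ centralizer (V : Set G) := by
  intro v hv
  rw [mem_centralizer_iff]
  intro w hw
  exact h.v.comm hw hv

theorem p_mem_b0 (h : Pair T V W z) (hp : p ∈ V) (hp1 : p ≠ 1) : p ∈ b0 V W p :=
  mem_b0.mpr ⟨h.p_memW hp hp1, h.V_le_centralizer hp⟩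

theorem b0_comm (h : Pair T V W z) (hp : p ∈ V) (hp1 : p ≠ 1) (hq : q ∈ V) (hq1 : q ≠ 1) {a c : G}
    (ha : a ∈ b0 V W p) (hc : c ∈ b0 V W q) : a * c = c * a := by
  rw [mem_b0] at ha hc
  by_cases hqp : q = p
  · subst hqp
    exact h.abW' hq hq1 a ha.1 c hc.1
  · have h1 : a * c * a⁻¹ * c⁻¹ = 1 := by
      refine h.inf_triv hp hp1 hq hq1 hqp ?_ ?_
      · have : a * c * a⁻¹ * c⁻¹ = a * (c * a⁻¹ * c⁻¹) := by group
        rw [this]
        exact mul_mem ha.1 (h.cent_norm hp hc.2 (inv_mem ha.1))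
      · exact mul_mem (h.cent_norm hq ha.2 hc.1) (inv_mem hc.1)
    calc a * c = (a * c * a⁻¹ * c⁻¹) * (c * a) := by group
      _ = c * a := by rw [h1, one_mul]

theorem phi_mem (h : Pair T V W z) (hp : p ∈ V) (hp1 : p ≠ 1) {b c : G}
    (hb : b ∈ ws W p) (hc : c ∈ centralizer (V : Set G)) : b * c * b⁻¹ * c⁻¹ ∈ b0 V W p := by
  rw [mem_b0]
  constructor
  · have : b * c * b⁻¹ * c⁻¹ = b * (c * b⁻¹ * c⁻¹) := by group
    rw [this]
    exact mul_mem hb (h.cent_norm hp hc (inv_mem hb))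
  · exact mul_mem (h.cent_conj hp hp1 hc hb) (inv_mem hc)

theorem phi_inj (h : Pair T V W z) (hp : p ∈ V) (hp1 : p ≠ 1) (hq : q ∈ V) (hq1 : q ≠ 1)
    (hqp : q ≠ p) {b c : G} (hb : b ∈ ws W p) (hb1 : b ∉ centralizer (V : Set G)) (hc : c ∈ ws W q)
    (e : b * c = c * b) : c = 1 := by
  have h1 := conj_mem_ws b hc
  rw [h.move hp hp1 hq hq1 hqp hb hb1, conj_eq_of_comm e] at h1
  refine h.inf_triv hq hq1 (mul_mem hp hq) (h.mul_ne_one hq (Ne.symm hqp)) ?_ hc h1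
  intro e'
  exact hp1 (by simpa using e')

theorem phi_eq (h : Pair T V W z) (hp : p ∈ V) (hp1 : p ≠ 1) (hq : q ∈ V) (hq1 : q ≠ 1)
    (hqp : q ≠ p) {b c d : G} (hb : b ∈ ws W p) (hb1 : b ∉ centralizer (V : Set G)) (hc : c ∈ ws W q)
    (hd : d ∈ ws W q) (e : b * c * b⁻¹ * c⁻¹ = b * d * b⁻¹ * d⁻¹) : c = d := by
  have h1 : d⁻¹ * c = 1 := by
    refine h.phi_inj hp hp1 hq hq1 hqp hb hb1 (mul_mem (inv_mem hd) hc) ?_
    refine comm_of_conj_eq ?_
    calc b * (d⁻¹ * c) * b⁻¹ = (b * d * b⁻¹)⁻¹ * (b * c * b⁻¹ * c⁻¹) * c := by group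
      _ = (b * d * b⁻¹)⁻¹ * (b * d * b⁻¹ * d⁻¹) * c := by rw [e]
      _ = d⁻¹ * c := by group
  calc c = d * (d⁻¹ * c) := by group
    _ = d := by rw [h1, mul_one]

theorem cj_b0 (_ : Pair T V W z) {g : G} (hg : g ∈ normalizer (V : Set G)) (p : G) :
    cj g (b0 V W p) = b0 V W (g * p * g⁻¹) := by
  unfold b0
  rw [cj_inf, cj_ws, cj_eq_of_mem_normalizer (normalizer_le_normalizer_centralizer V hg)]

theorem card_b0 (h : Pair T V W z) (hp : p ∈ V) (hp1 : p ≠ 1) (hq : q ∈ V) (hq1 : q ≠ 1) :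
    Nat.card (b0 V W p) = Nat.card (b0 V W q) := by
  obtain ⟨g, hg, hgp, -⟩ := h.point hp hp1
  obtain ⟨k, hk, hkp, -⟩ := h.point hq hq1
  rw [← hgp, ← hkp, ← h.cj_b0 hg, ← h.cj_b0 hk, card_cj, card_cj]

theorem phi_surj (h : Pair T V W z) (hp : p ∈ V) (hp1 : p ≠ 1) (hq : q ∈ V) (hq1 : q ≠ 1)
    (hqp : q ≠ p) {b a : G} (hb : b ∈ ws W p) (hb1 : b ∉ centralizer (V : Set G)) (ha : a ∈ b0 V W p) :
    ∃ c ∈ b0 V W q, b * c * b⁻¹ * c⁻¹ = a := by
  let f : b0 V W q → b0 V W p := fun c =>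
    ⟨b * c * b⁻¹ * (c : G)⁻¹, h.phi_mem hp hp1 hb (mem_b0.mp c.2).2⟩
  have hf : Function.Injective f := by
    intro c d hcd
    exact Subtype.ext (h.phi_eq hp hp1 hq hq1 hqp hb hb1 (mem_b0.mp c.2).1 (mem_b0.mp d.2).1
      (congrArg Subtype.val hcd))
  have hb := hf.bijective_of_nat_card_le (h.card_b0 hp hp1 hq hq1).le
  obtain ⟨c, hc⟩ := hb.2 ⟨a, ha⟩
  exact ⟨c, c.2, congrArg Subtype.val hc⟩

theorem exists_q (h : Pair T V W z) (hp : p ∈ V) (hp1 : p ≠ 1) : ∃ q ∈ V, q ≠ 1 ∧ q ≠ p := by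
  obtain ⟨g, -, -, hg⟩ := h.point hp hp1
  exact hg.v.exists_y

/-- the movers of `ws W p` form one coset of `b0 p` -/
theorem mover_coset (h : Pair T V W z) (hp : p ∈ V) (hp1 : p ≠ 1) {b b' : G} (hb : b ∈ ws W p)
    (hb1 : b ∉ centralizer (V : Set G)) (hb' : b' ∈ ws W p) (hb1' : b' ∉ centralizer (V : Set G)) :
    b' * b⁻¹ ∈ b0 V W p := by
  rw [mem_b0]
  refine ⟨mul_mem hb' (inv_mem hb), ?_⟩
  obtain ⟨q, hq, hq1, hqp⟩ := h.exists_q hp hp1
  refine h.mem_centralizer_of hp hp1 (mul_mem hp hq) (h.mul_ne_one hq (Ne.symm hqp)) ?_ ?_ ?_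
  · intro e'
    exact hq1 (by simpa using e')
  · exact mul_comm_of (h.p_comm hp hp1 hb') (inv_comm_of (h.p_comm hp hp1 hb))
  · refine comm_of_conj_eq ?_
    have e1 := h.move hp hp1 hq hq1 hqp hb hb1
    have e2 := h.move hp hp1 hq hq1 hqp hb' hb1'
    calc b' * b⁻¹ * (p * q) * (b' * b⁻¹)⁻¹ = b' * (b⁻¹ * (p * q) * b) * b'⁻¹ := by group
      _ = b' * (b⁻¹ * (b * q * b⁻¹) * b) * b'⁻¹ := by rw [e1]
      _ = b' * q * b'⁻¹ := by group
      _ = p * q := e2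

/-- commuting with a mover and with `b0 p` means commuting with `ws W p` -/
theorem comm_ws_of (h : Pair T V W z) (hp : p ∈ V) (hp1 : p ≠ 1) {b g : G} (hb : b ∈ ws W p)
    (hb1 : b ∉ centralizer (V : Set G)) (h1 : g * b = b * g) (h2 : ∀ c ∈ b0 V W p, g * c = c * g) :
    ∀ c ∈ ws W p, g * c = c * g := by
  intro c hc
  by_cases hc1 : c ∈ centralizer (V : Set G)
  · exact h2 c (mem_b0.mpr ⟨hc, hc1⟩)
  · have := h2 _ (h.mover_coset hp hp1 hb hb1 hc hc1)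
    have e := comm_mul_of this h1
    simpa using e

/-- step (3): `ws V q ∩ ws W p = ⟨p⟩` -/
theorem inter (h : Pair T V W z) (hp : p ∈ V) (hp1 : p ≠ 1) (hq : q ∈ V) (hq1 : q ≠ 1)
    (hqp : q ≠ p) {t : G} (h1 : t ∈ ws V q) (h2 : t ∈ ws W p) : t = 1 ∨ t = p := by
  have ht : t ∈ centralizer (V : Set G) := h.wsV_le_centralizer_V hq hq1 h1
  obtain ⟨b, hb, hb1⟩ := h.exists_move' hq hq1
  rcases h.commV hq hq1 h1 (h.wsW_le_o2 hq hq1 hb) with e | e
  · left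
    exact h.phi_inj hq hq1 hp hp1 (Ne.symm hqp) hb hb1 h2 e.symm
  · right
    have e2 : b * t * b⁻¹ = q * t := by
      calc b * t * b⁻¹ = q * (q * (b * t)) * b⁻¹ := by
            rw [← mul_assoc q q, h.v.sq q hq, one_mul]
        _ = q * (t * b) * b⁻¹ := by rw [e]
        _ = q * t := by group
    have e3 := h.move hq hq1 hp hp1 (Ne.symm hqp) hb hb1
    have h3 : t * p = 1 := by
      refine h.phi_inj hq hq1 hp hp1 (Ne.symm hqp) hb hb1 (mul_mem h2 (h.p_memW hp hp1)) ?_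
      refine comm_of_conj_eq ?_
      calc b * (t * p) * b⁻¹ = (b * t * b⁻¹) * (b * p * b⁻¹) := by group
        _ = (q * t) * (q * p) := by rw [e2, e3]
        _ = (t * q) * (q * p) := by rw [h.V_comm hq ht]
        _ = t * (q * q) * p := by group
        _ = t * p := by rw [h.v.sq q hq, mul_one]
    rw [mul_eq_one_iff_eq_inv.mp h3, h.v.inv_eq hp]

/-- step (4): `[ws V p, b0 q] ≤ ⟨q⟩` -/
theorem comm_b0 (h : Pair T V W z) (hp : p ∈ V) (hp1 : p ≠ 1) (hq : q ∈ V) (hq1 : q ≠ 1)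
    {a c : G} (ha : a ∈ ws V p) (hc : c ∈ b0 V W q) : a * c * a⁻¹ = c ∨ a * c * a⁻¹ = q * c := by
  have hc' := mem_b0.mp hc
  by_cases hqp : p = q
  · subst hqp
    rcases h.commV hp hp1 ha (h.wsW_le_o2 hp hp1 hc'.1) with e | e
    · left; exact conj_eq_of_comm e
    · right
      rw [e]; group
  · have ha' := h.wsV_le_centralizer_V hp hp1 ha
    rcases h.inter hq hq1 hp hp1 hqp (t := a * c * a⁻¹ * c⁻¹) (by
      have : a * c * a⁻¹ * c⁻¹ = a * (c * a⁻¹ * c⁻¹) := by group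
      rw [this]
      exact mul_mem ha (h.cent_norm' hp hc'.2 (inv_mem ha)))
      (mul_mem (h.cent_norm hq ha' hc'.1) (inv_mem hc'.1)) with e | e
    · left
      calc a * c * a⁻¹ = (a * c * a⁻¹ * c⁻¹) * c := by group
        _ = c := by rw [e, one_mul]
    · right
      calc a * c * a⁻¹ = (a * c * a⁻¹ * c⁻¹) * c := by group
        _ = q * c := by rw [e]

/-- the actions of `ws V p` and `ws W q` on `b0 r` commute -/
theorem act_comm (h : Pair T V W z) (hp : p ∈ V) (hp1 : p ≠ 1) (hq : q ∈ V) (hq1 : q ≠ 1)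
    {r : G} (hr : r ∈ V) (hr1 : r ≠ 1) {a b x : G} (ha : a ∈ ws V p) (hb : b ∈ ws W q)
    (hx : x ∈ b0 V W r) : a * (b * x * b⁻¹) * a⁻¹ = b * (a * x * a⁻¹) * b⁻¹ := by
  have hx' := mem_b0.mp hx
  by_cases hb1 : b ∈ centralizer (V : Set G)
  · -- `b` centralizes `x` and `r`
    have hb0 : b ∈ b0 V W q := mem_b0.mpr ⟨hb, hb1⟩
    have e1 : b * x * b⁻¹ = x := conj_eq_of_comm (h.b0_comm hq hq1 hr hr1 hb0 hx)
    have e2 : b * r * b⁻¹ = r := conj_eq_of_comm (h.V_comm hr hb1).symm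
    rw [e1]
    rcases h.comm_b0 hp hp1 hr hr1 ha hx with e | e
    · rw [e, e1]
    · rw [e]
      calc r * x = (b * r * b⁻¹) * (b * x * b⁻¹) := by rw [e1, e2]
        _ = b * (r * x) * b⁻¹ := by group
  · by_cases hrq : r = q
    · subst hrq
      have e1 : b * x * b⁻¹ = x := conj_eq_of_comm (h.abW' hr hr1 b hb x hx'.1)
      have e2 : b * r * b⁻¹ = r := conj_eq_of_comm (h.p_comm hr hr1 hb)
      rw [e1]
      rcases h.comm_b0 hp hp1 hr hr1 ha hx with e | e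
      · rw [e, e1]
      · rw [e]
        calc r * x = (b * r * b⁻¹) * (b * x * b⁻¹) := by rw [e1, e2]
          _ = b * (r * x) * b⁻¹ := by group
    · have em := h.move hq hq1 hr hr1 hrq hb hb1
      obtain ⟨d, hd⟩ : ∃ d, d = b * x * b⁻¹ * x⁻¹ := ⟨_, rfl⟩
      have hd0 : d ∈ b0 V W q := by rw [hd]; exact h.phi_mem hq hq1 hb hx'.2
      have hx2 : b * x * b⁻¹ = d * x := by rw [hd]; group
      have hx3 : b * x * b⁻¹ ∈ b0 V W (q * r) := by
        rw [mem_b0]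
        refine ⟨?_, h.cent_conj hq hq1 hx'.2 hb⟩
        have := conj_mem_ws b hx'.1
        rwa [em] at this
      have hqr1 : q * r ≠ 1 := h.mul_ne_one hr (Ne.symm hrq)
      have k1 := h.comm_b0 hp hp1 hr hr1 ha hx
      have k2 := h.comm_b0 hp hp1 hq hq1 ha hd0
      have k3 := h.comm_b0 hp hp1 (mul_mem hq hr) hqr1 ha hx3
      have k4 : a * (b * x * b⁻¹) * a⁻¹ = (a * d * a⁻¹) * (a * x * a⁻¹) := by rw [hx2]; group
      have hrd : r * d = d * r := h.V_comm hr (mem_b0.mp hd0).2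
      have key : ∀ s, s * (d * x) = d * x → s = 1 := fun s hs => by simpa using hs
      rcases k1 with k1 | k1 <;> rcases k3 with k3 | k3
      · rw [k1, k3]
      · exfalso
        rw [k1, k3, hx2] at k4
        rcases k2 with k2 | k2
        · rw [k2] at k4
          exact hqr1 (key _ k4)
        · rw [k2] at k4
          refine hr1 (key r ?_)
          calc r * (d * x) = q⁻¹ * (q * r * (d * x)) := by group
            _ = q⁻¹ * (q * d * x) := by rw [k4]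
            _ = d * x := by group
      · exfalso
        rw [k1, k3, hx2] at k4
        rcases k2 with k2 | k2
        · rw [k2] at k4
          refine hr1 (key r ?_)
          calc r * (d * x) = (r * d) * x := by group
            _ = d * (r * x) := by rw [hrd]; group
            _ = d * x := k4.symm
        · rw [k2] at k4
          refine hqr1 (key _ ?_)
          calc q * r * (d * x) = q * (r * d) * x := by group
            _ = q * d * (r * x) := by rw [hrd]; group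
            _ = d * x := k4.symm
      · rw [k1, k3]
        calc q * r * (b * x * b⁻¹) = (b * r * b⁻¹) * (b * x * b⁻¹) := by rw [em]
          _ = b * (r * x) * b⁻¹ := by group

/-- step (4'): `[ws V p, ws W q]` centralizes `b0 r` -/
theorem comm_cent (h : Pair T V W z) (hp : p ∈ V) (hp1 : p ≠ 1) (hq : q ∈ V) (hq1 : q ≠ 1)
    {r : G} (hr : r ∈ V) (hr1 : r ≠ 1) {a b x : G} (ha : a ∈ ws V p) (hb : b ∈ ws W q)
    (hx : x ∈ b0 V W r) : a * b * a⁻¹ * b⁻¹ * x = x * (a * b * a⁻¹ * b⁻¹) := by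
  have := h.act_comm hp hp1 hq hq1 hr hr1 (inv_mem ha) (inv_mem hb) hx
  refine comm_of_conj_eq ?_
  calc a * b * a⁻¹ * b⁻¹ * x * (a * b * a⁻¹ * b⁻¹)⁻¹
      = a * b * (a⁻¹ * (b⁻¹ * x * b⁻¹⁻¹) * a⁻¹⁻¹) * b⁻¹ * a⁻¹ := by group
    _ = a * b * (b⁻¹ * (a⁻¹ * x * a⁻¹⁻¹) * b⁻¹⁻¹) * b⁻¹ * a⁻¹ := by rw [this]
    _ = x := by group

/-- step (5): `C_G(U) = U` for `U = b0 p × b0 q` -/
theorem cent_u (h : Pair T V W z) (hp : p ∈ V) (hp1 : p ≠ 1) (hq : q ∈ V) (hq1 : q ≠ 1)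
    (hqp : q ≠ p) {k : G} (h1 : ∀ x ∈ b0 V W p, k * x = x * k) (h2 : ∀ x ∈ b0 V W q, k * x = x * k) :
    ∃ a ∈ b0 V W p, ∃ c ∈ b0 V W q, k = a * c := by
  have hk : k ∈ centralizer (V : Set G) := h.mem_centralizer_of hp hp1 hq hq1 hqp
    (h1 p (h.p_mem_b0 hp hp1)) (h2 q (h.p_mem_b0 hq hq1))
  obtain ⟨b, hb, hb1⟩ := h.exists_move' hp hp1
  obtain ⟨t, ht, ht1⟩ := h.exists_move' hq hq1
  have hf := h.phi_mem hp hp1 hb hk
  have hg := h.phi_mem hq hq1 ht hk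
  obtain ⟨c, hc, hcf⟩ := h.phi_surj hp hp1 hq hq1 hqp hb hb1 hf
  obtain ⟨a, ha, hag⟩ := h.phi_surj hq hq1 hp hp1 (Ne.symm hqp) ht ht1 hg
  set f := b * k * b⁻¹ * k⁻¹ with hfd
  set g := t * k * t⁻¹ * k⁻¹ with hgd
  refine ⟨a, ha, c, hc, ?_⟩
  set m := k * c⁻¹ * a⁻¹ with hm
  have hac : a * c = c * a := h.b0_comm hp hp1 hq hq1 ha hc
  have hm1 : m = 1 := by
    refine h.cent_triv hp hp1 hq hq1 hqp ?_ ?_
    · refine h.comm_ws_of hp hp1 hb hb1 ?_ ?_
      · refine (comm_of_conj_eq ?_).symm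
        have e1 : b * k * b⁻¹ = f * k := by rw [hfd]; group
        have e2 : b * c * b⁻¹ = f * c := by rw [← hcf]; group
        have e3 : b * a * b⁻¹ = a := conj_eq_of_comm (h.abW' hp hp1 b hb a (mem_b0.mp ha).1)
        have e4 : f * (k * c⁻¹) = (k * c⁻¹) * f :=
          comm_mul_of (h1 f hf).symm (comm_inv_of (h.b0_comm hp hp1 hq hq1 hf hc))
        calc b * m * b⁻¹ = (b * k * b⁻¹) * (b * c * b⁻¹)⁻¹ * (b * a * b⁻¹)⁻¹ := by rw [hm]; group
          _ = (f * k) * (f * c)⁻¹ * a⁻¹ := by rw [e1, e2, e3]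
          _ = f * (k * c⁻¹) * f⁻¹ * a⁻¹ := by group
          _ = (k * c⁻¹) * f * f⁻¹ * a⁻¹ := by rw [e4]
          _ = m := by rw [hm]; group
      · intro x hx
        rw [hm]
        exact mul_comm_of (mul_comm_of (h1 x hx) (inv_comm_of (h.b0_comm hq hq1 hp hp1 hc hx)))
          (inv_comm_of (h.b0_comm hp hp1 hp hp1 ha hx))
    · refine h.comm_ws_of hq hq1 ht ht1 ?_ ?_
      · refine (comm_of_conj_eq ?_).symm
        have e1 : t * k * t⁻¹ = g * k := by rw [hgd]; group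
        have e2 : t * a * t⁻¹ = g * a := by rw [← hag]; group
        have e3 : t * c * t⁻¹ = c := conj_eq_of_comm (h.abW' hq hq1 t ht c (mem_b0.mp hc).1)
        have e4 : g * (k * c⁻¹ * a⁻¹) = (k * c⁻¹ * a⁻¹) * g :=
          comm_mul_of (comm_mul_of (h2 g hg).symm (comm_inv_of (h.b0_comm hq hq1 hq hq1 hg hc)))
            (comm_inv_of (h.b0_comm hq hq1 hp hp1 hg ha))
        calc t * m * t⁻¹ = (t * k * t⁻¹) * (t * c * t⁻¹)⁻¹ * (t * a * t⁻¹)⁻¹ := by rw [hm]; group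
          _ = (g * k) * c⁻¹ * (g * a)⁻¹ := by rw [e1, e2, e3]
          _ = g * (k * c⁻¹ * a⁻¹) * g⁻¹ := by group
          _ = (k * c⁻¹ * a⁻¹) * g * g⁻¹ := by rw [e4]
          _ = m := by rw [hm]; group
      · intro x hx
        rw [hm]
        exact mul_comm_of (mul_comm_of (h2 x hx) (inv_comm_of (h.b0_comm hq hq1 hq hq1 hc hx)))
          (inv_comm_of (h.b0_comm hp hp1 hq hq1 ha hx))
  calc k = m * (a * c) := by rw [hm]; group
    _ = a * c := by rw [hm1, one_mul]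

/-- `ws V q ∩ ws W q` centralizes `ws V p` -/
theorem f_comm (h : Pair T V W z) (hp : p ∈ V) (hp1 : p ≠ 1) (hq : q ∈ V) (hq1 : q ≠ 1)
    {f a : G} (hf : f ∈ ws V q) (hf' : f ∈ ws W q) (ha : a ∈ ws V p) : f * a = a * f := by
  by_cases hqp : q = p
  · subst hqp
    exact h.abV' hq hq1 f hf a ha
  have hf0 : f ∈ b0 V W q := mem_b0.mpr ⟨hf', h.wsV_le_centralizer_V hq hq1 hf⟩
  have hw1 : p * q ≠ 1 := h.mul_ne_one hq (Ne.symm hqp)
  have hwp : p ≠ p * q := fun e => hq1 (by simpa using e)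
  have hw : p * q ∈ V := mul_mem hp hq
  obtain ⟨b, hb, hb1⟩ := h.exists_move' hw hw1
  have e1 := h.move hw hw1 hp hp1 hwp hb hb1
  have e2 : p * q * p = q := by
    rw [h.v.comm hp hq, mul_assoc, h.v.sq p hp, mul_one]
  rw [e2] at e1
  have h1 := conj_mem_ws b ha
  rw [e1] at h1
  have h2 : f * (b * a * b⁻¹) = (b * a * b⁻¹) * f := h.abV' hq hq1 f hf _ h1
  obtain ⟨x, hx, y, hy, hxy⟩ := h.cent_u hp hp1 hq hq1 hqp
    (fun x hx => h.comm_cent hp hp1 hw hw1 hp hp1 ha hb hx)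
    (fun x hx => h.comm_cent hp hp1 hw hw1 hq hq1 ha hb hx)
  have h3 : f * (a * b * a⁻¹ * b⁻¹) = (a * b * a⁻¹ * b⁻¹) * f := by
    rw [hxy]
    exact comm_mul_of (h.b0_comm hq hq1 hp hp1 hf0 hx) (h.b0_comm hq hq1 hq hq1 hf0 hy)
  have h4 := comm_mul_of h3 h2
  have e : a * b * a⁻¹ * b⁻¹ * (b * a * b⁻¹) = a := by group
  rwa [e] at h4

end points

/-- step (6), one half -/
theorem cent_ab_aux (h : Pair T V W z) {c : G} (h1 : ∀ a ∈ ws V z, c * a = a * c)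
    (h2 : ∀ b ∈ ws W z, c * b = b * c) : c ∈ ws W z := by
  have hz := h.v.z_mem
  have hz1 := h.v.z_ne
  have hc : c ∈ centralizer (V : Set G) := by
    rw [mem_centralizer_iff]
    intro v hv
    exact (h1 v (h.v.V_le_ws hv)).symm
  obtain ⟨q, hq, hq1, hqp⟩ := h.v.exists_y
  obtain ⟨b, hb, hb1⟩ := h.exists_move
  have hcb := h2 b hb
  have hce : ∀ e ∈ b0 V W q, c * e = e * c := by
    intro e he
    have he' := mem_b0.mp he
    refine comm_of_conj_eq ?_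
    refine h.phi_eq hz hz1 hq hq1 hqp hb hb1 (h.cent_norm hq hc he'.1) he'.1 ?_
    have hd := h.phi_mem hz hz1 hb he'.2
    have hcd := h2 _ (mem_b0.mp hd).1
    calc b * (c * e * c⁻¹) * b⁻¹ * (c * e * c⁻¹)⁻¹
        = (b * c) * e * (c⁻¹ * b⁻¹) * c * e⁻¹ * c⁻¹ := by group
      _ = (c * b) * e * (b⁻¹ * c⁻¹) * c * e⁻¹ * c⁻¹ := by
          rw [hcb, show c⁻¹ * b⁻¹ = b⁻¹ * c⁻¹ from by rw [← mul_inv_rev, ← mul_inv_rev, hcb]]
      _ = c * (b * e * b⁻¹ * e⁻¹) * c⁻¹ := by group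
      _ = b * e * b⁻¹ * e⁻¹ := conj_eq_of_comm hcd
  obtain ⟨x, hx, y, hy, hxy⟩ := h.cent_u hz hz1 hq hq1 hqp
    (fun x hx => h2 x (mem_b0.mp hx).1) hce
  have hxb := h.abW b hb x (mem_b0.mp hx).1
  have hyb : b * y = y * b := by
    have e1 : b * (x⁻¹ * c) = (x⁻¹ * c) * b := comm_mul_of (comm_inv_of hxb) hcb.symm
    have e2 : x⁻¹ * c = y := by rw [hxy]; group
    rwa [e2] at e1
  have hy1 := h.phi_inj hz hz1 hq hq1 hqp hb hb1 (mem_b0.mp hy).1 hyb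
  rw [hxy, hy1, mul_one]
  exact (mem_b0.mp hx).1

/-- step (6): `C_G(ws V z ws W z) ≤ ws V z ∩ ws W z` -/
theorem cent_ab (h : Pair T V W z) {c : G} (h1 : ∀ a ∈ ws V z, c * a = a * c)
    (h2 : ∀ b ∈ ws W z, c * b = b * c) : c ∈ ws V z ∧ c ∈ ws W z :=
  ⟨h.symm.cent_ab_aux h2 h1, h.cent_ab_aux h1 h2⟩

theorem cent_ab' (h : Pair T V W z) {p : G} (hp : p ∈ V) (hp1 : p ≠ 1) {c : G}
    (h1 : ∀ a ∈ ws V p, c * a = a * c) (h2 : ∀ b ∈ ws W p, c * b = b * c) : c ∈ ws V p ∧ c ∈ ws W p := by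
  obtain ⟨g, -, -, hg⟩ := h.point hp hp1
  have := hg.cent_ab h1 (by rwa [ws_cj])
  rwa [ws_cj] at this

/-- step (7): `ws V z ∩ ws W z = ⟨z⟩` -/
theorem f_eq (h : Pair T V W z) {f : G} (hf : f ∈ ws V z) (hf' : f ∈ ws W z) : f = 1 ∨ f = z := by
  have hz := h.v.z_mem
  have hz1 := h.v.z_ne
  obtain ⟨p, hp, hp1, hpz⟩ := h.v.exists_y
  have hf0 : f ∈ b0 V W z := mem_b0.mpr ⟨hf', h.wsV_le_centralizer_V hz hz1 hf⟩
  set C := centralizer ({p} : Set G) with hC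
  have hCV : C ≤ normalizer ((ws V p : Subgroup G) : Set G) := centralizer_le_normalizer_ws V p
  have hCW : C ≤ normalizer ((ws W p : Subgroup G) : Set G) := centralizer_le_normalizer_ws W p
  let N : Subgroup G :=
    { carrier := {g | g ∈ C ∧ (∀ a ∈ ws V p, g * a * g⁻¹ * a⁻¹ ∈ ws V p ⊓ ws W p) ∧
        (∀ b ∈ ws W p, g * b * g⁻¹ * b⁻¹ ∈ ws V p ⊓ ws W p) ∧ ∀ e ∈ ws V p ⊓ ws W p, g * e = e * g}
      mul_mem' := by
        rintro g k ⟨hg, hg1, hg2, hg3⟩ ⟨hk, hk1, hk2, hk3⟩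
        have key : ∀ a, k * a * k⁻¹ * a⁻¹ ∈ ws V p ⊓ ws W p → g * a * g⁻¹ * a⁻¹ ∈ ws V p ⊓ ws W p →
            g * k * a * (g * k)⁻¹ * a⁻¹ ∈ ws V p ⊓ ws W p := by
          intro a h1 h2
          have e : g * k * a * (g * k)⁻¹ * a⁻¹ = g * (k * a * k⁻¹ * a⁻¹) * g⁻¹ * (g * a * g⁻¹ * a⁻¹) := by
            group
          rw [e, conj_eq_of_comm (hg3 _ h1)]
          exact mul_mem h1 h2
        exact ⟨mul_mem hg hk, fun a ha => key a (hk1 a ha) (hg1 a ha),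
          fun a ha => key a (hk2 a ha) (hg2 a ha), fun e he => mul_comm_of (hg3 e he) (hk3 e he)⟩
      one_mem' := ⟨one_mem _, fun a _ => by simp, fun a _ => by simp, fun a _ => by simp⟩
      inv_mem' := by
        rintro g ⟨hg, hg1, hg2, hg3⟩
        have key : ∀ a, g * a * g⁻¹ * a⁻¹ ∈ ws V p ⊓ ws W p → g⁻¹ * a * g⁻¹⁻¹ * a⁻¹ ∈ ws V p ⊓ ws W p := by
          intro a h1
          have h3 := hg3 _ h1
          have e : g⁻¹ * a * g⁻¹⁻¹ * a⁻¹ = g⁻¹ * (g * a * g⁻¹ * a⁻¹)⁻¹ * g := by group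
          rw [e]
          have e2 : g⁻¹ * (g * a * g⁻¹ * a⁻¹)⁻¹ * g = (g * a * g⁻¹ * a⁻¹)⁻¹ := by
            have := comm_inv_of h3
            calc g⁻¹ * (g * a * g⁻¹ * a⁻¹)⁻¹ * g = g⁻¹ * ((g * a * g⁻¹ * a⁻¹)⁻¹ * g) := by group
              _ = g⁻¹ * (g * (g * a * g⁻¹ * a⁻¹)⁻¹) := by rw [this]
              _ = (g * a * g⁻¹ * a⁻¹)⁻¹ := by group
          rw [e2]
          exact inv_mem h1
        exact ⟨inv_mem hg, fun a ha => key a (hg1 a ha), fun a ha => key a (hg2 a ha),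
          fun e he => inv_comm_of (hg3 e he)⟩ }
  have hNC : N ≤ C := fun g hg => hg.1
  have hNn : C ≤ normalizer (N : Set G) := by
    refine le_normalizer_of_forall fun c hc g hg => ?_
    obtain ⟨hg, hg1, hg2, hg3⟩ := hg
    have hFc : ∀ e ∈ ws V p ⊓ ws W p, c * e * c⁻¹ ∈ ws V p ⊓ ws W p := fun e he =>
      ⟨conj_mem_of_normalizer hCV hc he.1, conj_mem_of_normalizer hCW hc he.2⟩
    refine ⟨mul_mem (mul_mem hc hg) (inv_mem hc), fun a ha => ?_, fun a ha => ?_, fun e he => ?_⟩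
    · have h1 := hFc _ (hg1 _ (conj_mem_of_normalizer' hCV hc ha))
      have e : c * (g * (c⁻¹ * a * c) * g⁻¹ * (c⁻¹ * a * c)⁻¹) * c⁻¹ =
        c * g * c⁻¹ * a * (c * g * c⁻¹)⁻¹ * a⁻¹ := by group
      rwa [e] at h1
    · have h1 := hFc _ (hg2 _ (conj_mem_of_normalizer' hCW hc ha))
      have e : c * (g * (c⁻¹ * a * c) * g⁻¹ * (c⁻¹ * a * c)⁻¹) * c⁻¹ =
        c * g * c⁻¹ * a * (c * g * c⁻¹)⁻¹ * a⁻¹ := by group
      rwa [e] at h1
    · have h1 : c⁻¹ * e * c ∈ ws V p ⊓ ws W p :=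
        ⟨conj_mem_of_normalizer' hCV hc he.1, conj_mem_of_normalizer' hCW hc he.2⟩
      have h2 := hg3 _ h1
      calc c * g * c⁻¹ * e = c * (g * (c⁻¹ * e * c)) * c⁻¹ := by group
        _ = c * ((c⁻¹ * e * c) * g) * c⁻¹ := by rw [h2]
        _ = e * (c * g * c⁻¹) := by group
  have hFsq : ∀ e ∈ ws V p ⊓ ws W p, e * e = 1 := fun e he => h.sqV' hp hp1 e he.1
  have hN2 : IsPGroup 2 N := by
    intro g
    obtain ⟨hg, hg1, hg2, hg3⟩ := g.2
    have key : ∀ a, (g : G) * a * (g : G)⁻¹ * a⁻¹ ∈ ws V p ⊓ ws W p →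
        ((g : G) * g) * a = a * (g * g) := by
      intro a ha
      set e := (g : G) * a * (g : G)⁻¹ * a⁻¹ with he
      have h3 := hg3 e ha
      have h4 := hFsq e ha
      have h5 : (g : G) * a = e * a * g := by rw [he]; group
      calc ((g : G) * g) * a = g * (g * a) := by group
        _ = (g * e) * a * g := by rw [h5]; group
        _ = e * (g * a) * g := by rw [h3]; group
        _ = (e * e) * a * (g * g) := by rw [h5]; group
        _ = a * (g * g) := by rw [h4, one_mul]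
    have h6 := h.cent_ab' hp hp1 (c := (g : G) * g) (fun a ha => key a (hg1 a ha))
      (fun a ha => key a (hg2 a ha))
    have h7 := hFsq _ h6
    refine ⟨2, ?_⟩
    ext
    have e : ((g ^ 2 ^ 2 : N) : G) = (g : G) * g * (g * g) := by
      push_cast
      norm_num [pow_succ, mul_assoc]
    rw [e, h7]; rfl
  have hfN : f ∈ N := by
    have hfV : ∀ a ∈ ws V p, f * a = a * f := fun a ha => h.f_comm hp hp1 hz hz1 hf hf' ha
    have hfc : f ∈ C := by
      rw [hC, mem_centralizer_singleton_iff]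
      exact (h.V_comm hp (mem_b0.mp hf0).2).symm
    refine ⟨hfc, fun a ha => ?_, fun b hb => ?_, fun e he => hfV e he.1⟩
    · rw [hfV a ha]
      have : a * f * f⁻¹ * a⁻¹ = 1 := by group
      rw [this]; exact one_mem _
    · have h1 : f * b * f⁻¹ * b⁻¹ ∈ ws W p :=
        mul_mem (h.cent_norm hp (mem_b0.mp hf0).2 hb) (inv_mem hb)
      refine ⟨?_, h1⟩
      refine (h.cent_ab' hp hp1 (fun a ha => ?_) (fun a ha => h.abW' hp hp1 _ h1 a ha)).1
      have hbC := h.wsW_le_centralizer hp hp1 hb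
      have h2 := hfV _ (conj_mem_of_normalizer' hCV hbC ha)
      have h3 : (b * f⁻¹ * b⁻¹) * a = a * (b * f⁻¹ * b⁻¹) := by
        calc (b * f⁻¹ * b⁻¹) * a = b * (f⁻¹ * (b⁻¹ * a * b)) * b⁻¹ := by group
          _ = b * ((b⁻¹ * a * b) * f⁻¹) * b⁻¹ := by rw [inv_comm_of h2]
          _ = a * (b * f⁻¹ * b⁻¹) := by group
      have h4 := mul_comm_of (hfV a ha) h3
      have e : f * (b * f⁻¹ * b⁻¹) = f * b * f⁻¹ * b⁻¹ := by group
      rwa [e] at h4
  have hfo : f ∈ o2 C := Block.le_o2 hN2 hNC hNn hfN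
  obtain ⟨b, hb, hb1⟩ := h.exists_move' hp hp1
  rcases h.commW hp hp1 hb hfo with e | e
  · left
    exact h.phi_inj hp hp1 hz hz1 (Ne.symm hpz) hb hb1 hf' e
  · right
    have e1 := h.move hp hp1 hz hz1 (Ne.symm hpz) hb hb1
    have e2 : b * f * b⁻¹ = p * f := by rw [e]; group
    have h3 : f * z = 1 := by
      refine h.phi_inj hp hp1 hz hz1 (Ne.symm hpz) hb hb1 (mul_mem hf' h.z_memW) ?_
      refine comm_of_conj_eq ?_
      calc b * (f * z) * b⁻¹ = (b * f * b⁻¹) * (b * z * b⁻¹) := by group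
        _ = (p * f) * (p * z) := by rw [e1, e2]
        _ = (f * p) * (p * z) := by rw [h.V_comm hp (mem_b0.mp hf0).2]
        _ = f * (p * p) * z := by group
        _ = f * z := by rw [h.v.sq p hp, mul_one]
    rw [mul_eq_one_iff_eq_inv.mp h3, h.v.inv_eq hz]

end Pair

end Cfsg.Agent.Omega.CaseL
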