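import Cfsg.Agent.Omega.CaseL.Base

/-!
# Two types of lines with `W₁`, `W₂` abelian and `[W₁, W₂] ≠ 1`

`Pair T V W z`: two flags `(z, V)`, `(z, W)` with the same Sylow 2-subgroup `T`; the subgroups `ws V z`, `ws W z`
generated by the lines of the two types through `z` are abelian and do not commute.
This file: steps (1)-(5) of the proof that `O₂(C_G(z)) = ws V z ws W z` is extraspecial.
-/

set_option autoImplicit false
set_option linter.style.haveILetI false
set_option linter.unusedSectionVars false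

namespace Cfsg.Agent.Omega.CaseL

open Subgroup Cfsg Cfsg.Agent.ZN Cfsg.Agent.MinSimple.Geo
open Cfsg.Agent.ZN.Block (conj_mem_of_normalizer conj_mem_of_normalizer' le_normalizer_of_forall
  mem_normalizer_of)

universe u

variable {G : Type u} [Group G]

/-- two flags at `z` with abelian `ws V z`, `ws W z` which do not commute -/
structure Pair (T V W : Subgroup G) (z : G) : Prop where
  v : Ln T V z
  w : Ln T W z
  abV : ∀ a ∈ ws V z, ∀ b ∈ ws V z, a * b = b * a
  abW : ∀ a ∈ ws W z, ∀ b ∈ ws W z, a * b = b * a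
  nc : ∃ a ∈ ws V z, ∃ b ∈ ws W z, a * b ≠ b * a

theorem mem_of_cj {g x : G} {H : Subgroup G} (h : x ∈ cj g H) : g⁻¹ * x * g ∈ H := mem_cj.mp h

theorem normalizer_le_normalizer_centralizer (V : Subgroup G) :
    normalizer (V : Set G) ≤ normalizer ((centralizer (V : Set G) : Subgroup G) : Set G) := by
  refine le_normalizer_of_forall fun g hg c hc => ?_
  rw [mem_centralizer_iff] at hc ⊢
  intro v hv
  have hv' : g⁻¹ * v * g ∈ V := (mem_normalizer_iff''.mp hg v).mp hv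
  have := hc _ hv'
  calc v * (g * c * g⁻¹) = g * ((g⁻¹ * v * g) * c) * g⁻¹ := by group
    _ = g * (c * (g⁻¹ * v * g)) * g⁻¹ := by rw [this]
    _ = g * c * g⁻¹ * v := by group

/-- elementwise: conjugation moves `ws V x` to `ws V (g x g⁻¹)` -/
theorem conj_mem_ws {V : Subgroup G} {x a : G} (g : G) (ha : a ∈ ws V x) :
    g * a * g⁻¹ ∈ ws V (g * x * g⁻¹) := by
  rw [← cj_ws]; exact conj_mem_cj ha

namespace Pair

variable {T V W : Subgroup G} {z : G}

theorem symm (h : Pair T V W z) : Pair T W V z where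
  v := h.w
  w := h.v
  abV := h.abW
  abW := h.abV
  nc := by
    obtain ⟨a, ha, b, hb, hab⟩ := h.nc
    exact ⟨b, hb, a, ha, fun e => hab e.symm⟩

theorem conj (h : Pair T V W z) (g : G) : Pair (cj g T) (cj g V) (cj g W) (g * z * g⁻¹) where
  v := h.v.conj g
  w := h.w.conj g
  abV := by
    rw [ws_cj, ← cj_ws]
    intro a ha b hb
    have := h.abV _ (mem_of_cj ha) _ (mem_of_cj hb)
    calc a * b = g * ((g⁻¹ * a * g) * (g⁻¹ * b * g)) * g⁻¹ := by group
      _ = g * ((g⁻¹ * b * g) * (g⁻¹ * a * g)) * g⁻¹ := by rw [this]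
      _ = b * a := by group
  abW := by
    rw [ws_cj, ← cj_ws]
    intro a ha b hb
    have := h.abW _ (mem_of_cj ha) _ (mem_of_cj hb)
    calc a * b = g * ((g⁻¹ * a * g) * (g⁻¹ * b * g)) * g⁻¹ := by group
      _ = g * ((g⁻¹ * b * g) * (g⁻¹ * a * g)) * g⁻¹ := by rw [this]
      _ = b * a := by group
  nc := by
    rw [ws_cj, ws_cj]
    obtain ⟨a, ha, b, hb, hab⟩ := h.nc
    refine ⟨_, conj_mem_ws g ha, _, conj_mem_ws g hb, fun e => hab ?_⟩
    calc a * b = g⁻¹ * ((g * a * g⁻¹) * (g * b * g⁻¹)) * g := by group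
      _ = g⁻¹ * ((g * b * g⁻¹) * (g * a * g⁻¹)) * g := by rw [e]
      _ = b * a := by group

theorem point (h : Pair T V W z) {p : G} (hp : p ∈ V) (hp1 : p ≠ 1) :
    ∃ g ∈ normalizer (V : Set G), g * z * g⁻¹ = p ∧ Pair (cj g T) V (cj g W) p := by
  obtain ⟨g, hg, rfl⟩ := h.v.trans p hp hp1
  refine ⟨g, hg, rfl, ?_⟩
  have := h.conj g
  rwa [cj_eq_of_mem_normalizer hg] at this

variable [Finite G]

/-! ### facts at `z` -/

theorem sqV (h : Pair T V W z) : ∀ a ∈ ws V z, a * a = 1 := by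
  let S : Subgroup G :=
    { carrier := {a | a ∈ ws V z ∧ a * a = 1}
      mul_mem' := by
        rintro a b ⟨ha, ha1⟩ ⟨hb, hb1⟩
        refine ⟨mul_mem ha hb, ?_⟩
        calc a * b * (a * b) = a * (b * a) * b := by group
          _ = a * (a * b) * b := by rw [h.abV b hb a ha]
          _ = (a * a) * (b * b) := by group
          _ = 1 := by rw [ha1, hb1, mul_one]
      one_mem' := ⟨one_mem _, one_mul 1⟩
      inv_mem' := by
        rintro a ⟨ha, ha1⟩
        refine ⟨inv_mem ha, ?_⟩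
        rw [inv_eq_self ha1]; exact ha1 }
  have hle : ws V z ≤ S := by
    refine ws_le fun L hL => ?_
    intro x hx
    refine ⟨le_ws hL hx, ?_⟩
    obtain ⟨c, hc, rfl⟩ := h.v.exists_of_mem_lines hL
    rw [mem_cj] at hx
    have := h.v.sq _ hx
    calc x * x = c * (c⁻¹ * x * c * (c⁻¹ * x * c)) * c⁻¹ := by group
      _ = 1 := by rw [this]; group
  intro a ha
  exact (hle ha).2

theorem sqW (h : Pair T V W z) : ∀ a ∈ ws W z, a * a = 1 := h.symm.sqV

theorem z_memV (h : Pair T V W z) : z ∈ ws V z := h.v.V_le_ws h.v.z_mem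

theorem z_memW (h : Pair T V W z) : z ∈ ws W z := h.symm.z_memV

/-- some element of `ws W z` moves `V` -/
theorem exists_move (h : Pair T V W z) : ∃ b ∈ ws W z, b ∉ centralizer (V : Set G) := by
  by_contra hcon
  push Not at hcon
  obtain ⟨a, ha, b, hb, hab⟩ := h.nc
  have hle : ws V z ≤ centralizer ((ws W z : Subgroup G) : Set G) := by
    refine ws_le fun L hL => ?_
    obtain ⟨c, hc, rfl⟩ := h.v.exists_of_mem_lines hL
    intro x hx
    rw [mem_cj] at hx
    rw [mem_centralizer_iff]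
    intro y hy
    have hy' : c⁻¹ * y * c ∈ ws W z :=
      conj_mem_of_normalizer' (centralizer_le_normalizer_ws W z) hc hy
    have := mem_centralizer_iff.mp (hcon _ hy') _ hx
    calc y * x = c * ((c⁻¹ * y * c) * (c⁻¹ * x * c)) * c⁻¹ := by group
      _ = c * ((c⁻¹ * x * c) * (c⁻¹ * y * c)) * c⁻¹ := by rw [this]
      _ = x * y := by group
  exact hab (mem_centralizer_iff.mp (hle ha) b hb).symm

/-! ### facts at all points of `V` -/

section points

variable {p q : G}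

theorem abV' (h : Pair T V W z) (hp : p ∈ V) (hp1 : p ≠ 1) :
    ∀ a ∈ ws V p, ∀ b ∈ ws V p, a * b = b * a := by
  obtain ⟨g, -, -, hg⟩ := h.point hp hp1
  exact hg.abV

theorem abW' (h : Pair T V W z) (hp : p ∈ V) (hp1 : p ≠ 1) :
    ∀ a ∈ ws W p, ∀ b ∈ ws W p, a * b = b * a := by
  obtain ⟨g, -, -, hg⟩ := h.point hp hp1
  have := hg.abW
  rwa [ws_cj] at this

theorem sqV' (h : Pair T V W z) (hp : p ∈ V) (hp1 : p ≠ 1) : ∀ a ∈ ws V p, a * a = 1 := by
  obtain ⟨g, -, -, hg⟩ := h.point hp hp1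
  exact hg.sqV

theorem sqW' (h : Pair T V W z) (hp : p ∈ V) (hp1 : p ≠ 1) : ∀ a ∈ ws W p, a * a = 1 := by
  obtain ⟨g, -, -, hg⟩ := h.point hp hp1
  have := hg.sqW
  rwa [ws_cj] at this

theorem V_le (h : Pair T V W z) (hp : p ∈ V) (hp1 : p ≠ 1) : V ≤ ws V p := by
  obtain ⟨g, -, -, hg⟩ := h.point hp hp1
  exact hg.v.V_le_ws

theorem p_memW (h : Pair T V W z) (hp : p ∈ V) (hp1 : p ≠ 1) : p ∈ ws W p := by
  obtain ⟨g, -, -, hg⟩ := h.point hp hp1
  have := hg.z_memW
  rwa [ws_cj] at this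

theorem wsV_le_centralizer_V (h : Pair T V W z) (hp : p ∈ V) (hp1 : p ≠ 1) :
    ws V p ≤ centralizer (V : Set G) := by
  intro a ha
  rw [mem_centralizer_iff]
  intro v hv
  exact h.abV' hp hp1 v (h.V_le hp hp1 hv) a ha

theorem wsW_le_normalizer_V (h : Pair T V W z) (hp : p ∈ V) (hp1 : p ≠ 1) :
    ws W p ≤ normalizer (V : Set G) := by
  obtain ⟨g, -, -, hg⟩ := h.point hp hp1
  have := hg.w.ws_le_T.trans hg.v.T_norm
  rwa [ws_cj] at this

theorem wsW_le_centralizer (h : Pair T V W z) (hp : p ∈ V) (hp1 : p ≠ 1) :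
    ws W p ≤ centralizer ({p} : Set G) := by
  obtain ⟨g, -, -, hg⟩ := h.point hp hp1
  have := hg.w.ws_le_centralizer
  rwa [ws_cj] at this

theorem wsV_le_centralizer (h : Pair T V W z) (hp : p ∈ V) (hp1 : p ≠ 1) :
    ws V p ≤ centralizer ({p} : Set G) := by
  obtain ⟨g, -, -, hg⟩ := h.point hp hp1
  exact hg.v.ws_le_centralizer

theorem wsV_le_o2 (h : Pair T V W z) (hp : p ∈ V) (hp1 : p ≠ 1) :
    ws V p ≤ o2 (centralizer ({p} : Set G)) := by
  obtain ⟨g, -, -, hg⟩ := h.point hp hp1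
  exact hg.v.ws_le_o2

theorem wsW_le_o2 (h : Pair T V W z) (hp : p ∈ V) (hp1 : p ≠ 1) :
    ws W p ≤ o2 (centralizer ({p} : Set G)) := by
  obtain ⟨g, -, -, hg⟩ := h.point hp hp1
  have := hg.w.ws_le_o2
  rwa [ws_cj] at this

/-- `[ws V p, O₂(C_G(p))] ≤ ⟨p⟩` -/
theorem commV (h : Pair T V W z) (hp : p ∈ V) (hp1 : p ≠ 1) {a r : G} (ha : a ∈ ws V p)
    (hr : r ∈ o2 (centralizer ({p} : Set G))) : a * r = r * a ∨ a * r = p * (r * a) := by
  obtain ⟨g, -, -, hg⟩ := h.point hp hp1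
  exact hg.v.comm_cases ha hr

/-- `[ws W p, O₂(C_G(p))] ≤ ⟨p⟩` -/
theorem commW (h : Pair T V W z) (hp : p ∈ V) (hp1 : p ≠ 1) {b r : G} (hb : b ∈ ws W p)
    (hr : r ∈ o2 (centralizer ({p} : Set G))) : b * r = r * b ∨ b * r = p * (r * b) := by
  obtain ⟨g, -, -, hg⟩ := h.point hp hp1
  exact hg.w.comm_cases (by rwa [ws_cj]) hr

theorem exists_move' (h : Pair T V W z) (hp : p ∈ V) (hp1 : p ≠ 1) :
    ∃ b ∈ ws W p, b ∉ centralizer (V : Set G) := by
  obtain ⟨g, -, -, hg⟩ := h.point hp hp1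
  have := hg.exists_move
  rwa [ws_cj] at this

theorem p_comm (h : Pair T V W z) (hp : p ∈ V) (hp1 : p ≠ 1) {b : G} (hb : b ∈ ws W p) :
    b * p = p * b := mem_centralizer_singleton_iff.mp (h.wsW_le_centralizer hp hp1 hb)

theorem mem_centralizer_of (h : Pair T V W z) (hp : p ∈ V) (hp1 : p ≠ 1) (hq : q ∈ V) (hq1 : q ≠ 1)
    (hqp : q ≠ p) {g : G} (h1 : g * p = p * g) (h2 : g * q = q * g) :
    g ∈ centralizer (V : Set G) := by
  obtain ⟨g, -, -, hg⟩ := h.point hp hp1
  exact hg.v.mem_centralizer_V hq hq1 hqp h1 h2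

/-- a mover in `ws W p` moves the points `q ≠ p` of `V` to `p q` -/
theorem move (h : Pair T V W z) (hp : p ∈ V) (hp1 : p ≠ 1) (hq : q ∈ V) (hq1 : q ≠ 1)
    (hqp : q ≠ p) {b : G} (hb : b ∈ ws W p) (hb1 : b ∉ centralizer (V : Set G)) :
    b * q * b⁻¹ = p * q := by
  have hbp := h.p_comm hp hp1 hb
  rcases h.v.conj_cases hp hq hp1 hbp (h.wsW_le_normalizer_V hp hp1 hb) with e | e
  · exfalso
    refine hb1 (h.mem_centralizer_of hp hp1 hq hq1 hqp hbp ?_)
    calc b * q = (b * q * b⁻¹) * b := by group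
      _ = q * b := by rw [e]
  · exact e

theorem mul_ne_one (h : Pair T V W z) (hq : q ∈ V) (hpq : p ≠ q) : p * q ≠ 1 := fun e =>
  hpq (by rw [mul_eq_one_iff_eq_inv.mp e, h.v.inv_eq hq])

/-- `C_G(⟨ws W p, ws W q⟩) = 1` -/
theorem cent_triv (h : Pair T V W z) (hp : p ∈ V) (hp1 : p ≠ 1) (hq : q ∈ V) (hq1 : q ≠ 1)
    (hqp : q ≠ p) {c : G} (h1 : ∀ b ∈ ws W p, c * b = b * c) (h2 : ∀ b ∈ ws W q, c * b = b * c) :
    c = 1 := by
  let D : Subgroup G :=
    { carrier := {c | ∀ r ∈ V, r ≠ 1 → ∀ b ∈ ws W r, c * b = b * c}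
      mul_mem' := by
        intro c d hc hd r hr hr1 b hb
        rw [mul_assoc, hd r hr hr1 b hb, ← mul_assoc, hc r hr hr1 b hb, mul_assoc]
      one_mem' := by
        intro r hr hr1 b hb
        simp
      inv_mem' := by
        intro c hc r hr hr1 b hb
        have := hc r hr hr1 b hb
        calc c⁻¹ * b = c⁻¹ * (b * c) * c⁻¹ := by group
          _ = c⁻¹ * (c * b) * c⁻¹ := by rw [this]
          _ = b * c⁻¹ := by group }
  have hDc : D ≤ centralizer (V : Set G) := by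
    intro d hd
    exact h.mem_centralizer_of hp hp1 hq hq1 hqp (hd p hp hp1 p (h.p_memW hp hp1))
      (hd q hq hq1 q (h.p_memW hq hq1))
  have hDn : D ≤ normalizer (V : Set G) := hDc.trans (centralizer_le_normalizer _)
  have hN : normalizer (V : Set G) ≤ normalizer (D : Set G) := by
    refine le_normalizer_of_forall fun g hg d hd => ?_
    intro r hr hr1 b hb
    have hr' : g⁻¹ * r * g ∈ V := (mem_normalizer_iff''.mp hg r).mp hr
    have hr1' : g⁻¹ * r * g ≠ 1 := fun e => hr1 (by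
      have : r = g * (g⁻¹ * r * g) * g⁻¹ := by group
      rw [this, e]; group)
    have hb' : g⁻¹ * b * g ∈ ws W (g⁻¹ * r * g) := by
      have := conj_mem_ws g⁻¹ hb
      simpa using this
    have := hd _ hr' hr1' _ hb'
    calc g * d * g⁻¹ * b = g * (d * (g⁻¹ * b * g)) * g⁻¹ := by group
      _ = g * ((g⁻¹ * b * g) * d) * g⁻¹ := by rw [this]
      _ = b * (g * d * g⁻¹) := by group
  have hD : D = ⊥ := by
    by_contra hne
    have hz := h.v.z_mem_of_normal hDn hN hne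
    obtain ⟨y, hy, hy1, hyz⟩ := h.v.exists_y
    obtain ⟨b, hb, hb1⟩ := h.exists_move' hy hy1
    have e1 := h.move hy hy1 h.v.z_mem h.v.z_ne (Ne.symm hyz) hb hb1
    have e2 := hz y hy hy1 b hb
    have e3 : b * z * b⁻¹ = z := by rw [← e2]; group
    rw [e3] at e1
    exact hy1 (by simpa using e1.symm)
  have hc : c ∈ D := by
    intro r hr hr1 b hb
    obtain ⟨t, ht, ht1⟩ := h.exists_move' hp hp1
    obtain ⟨g', -, -, hg'⟩ := h.point hp hp1
    rcases hg'.v.four hp hq hp1 hq1 (Ne.symm hqp) hr with e | e | e | e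
    · exact absurd e hr1
    · rw [e] at hb; exact h1 b hb
    · rw [e] at hb; exact h2 b hb
    · -- `ws W (p q) = (ws W q)^t`
      have e1 := h.move hp hp1 hq hq1 hqp ht ht1
      rw [e, ← e1, ← cj_ws] at hb
      have hb' := mem_of_cj hb
      have hct := h1 t ht
      have := h2 _ hb'
      have hct' : c * t⁻¹ = t⁻¹ * c := by
        calc c * t⁻¹ = t⁻¹ * (t * c) * t⁻¹ := by group
          _ = t⁻¹ * (c * t) * t⁻¹ := by rw [hct]
          _ = t⁻¹ * c := by group
      calc c * b = c * t * (t⁻¹ * b * t) * t⁻¹ := by group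
        _ = t * (c * (t⁻¹ * b * t)) * t⁻¹ := by rw [hct]; group
        _ = t * ((t⁻¹ * b * t) * c) * t⁻¹ := by rw [this]
        _ = b * t * (c * t⁻¹) := by group
        _ = b * t * (t⁻¹ * c) := by rw [hct']
        _ = b * c := by group
  rw [hD] at hc
  exact mem_bot.mp hc

/-- `ws W p ∩ ws W q = 1` for distinct points of `V` -/
theorem inf_triv (h : Pair T V W z) (hp : p ∈ V) (hp1 : p ≠ 1) (hq : q ∈ V) (hq1 : q ≠ 1)
    (hqp : q ≠ p) {c : G} (h1 : c ∈ ws W p) (h2 : c ∈ ws W q) : c = 1 :=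
  h.cent_triv hp hp1 hq hq1 hqp (fun b hb => h.abW' hp hp1 c h1 b hb)
    (fun b hb => h.abW' hq hq1 c h2 b hb)

/-- elements centralizing `V` normalize `ws W p` -/
theorem cent_norm (_ : Pair T V W z) (hp : p ∈ V) {c b : G} (hc : c ∈ centralizer (V : Set G))
    (hb : b ∈ ws W p) : c * b * c⁻¹ ∈ ws W p := by
  refine conj_mem_of_normalizer (centralizer_le_normalizer_ws W p) ?_ hb
  rw [mem_centralizer_singleton_iff]
  exact (mem_centralizer_iff.mp hc p hp).symm

theorem cent_norm' (_ : Pair T V W z) (hp : p ∈ V) {c b : G} (hc : c ∈ centralizer (V : Set G))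
    (hb : b ∈ ws V p) : c * b * c⁻¹ ∈ ws V p := by
  refine conj_mem_of_normalizer (centralizer_le_normalizer_ws V p) ?_ hb
  rw [mem_centralizer_singleton_iff]
  exact (mem_centralizer_iff.mp hc p hp).symm

theorem cent_conj (h : Pair T V W z) (hp : p ∈ V) (hp1 : p ≠ 1) {c b : G}
    (hc : c ∈ centralizer (V : Set G)) (hb : b ∈ ws W p) : b * c * b⁻¹ ∈ centralizer (V : Set G) :=
  conj_mem_of_normalizer (normalizer_le_normalizer_centralizer V)
    (h.wsW_le_normalizer_V hp hp1 hb) hc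

end points

end Pair

end Cfsg.Agent.Omega.CaseL
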