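import Cfsg.Agent.Omega.CaseL.Core
import Cfsg.Agent.Co2Type.Quad
import Cfsg.Agent.J2.ExtQuot
import Cfsg.Agent.Transfer.Extraspecial
import Cfsg.Agent.Omega.Exits

/-!
# Two types of lines with `W₁`, `W₂` abelian: the extraspecial group

For a `Pair T V W z` (two types of lines, `ws V z`, `ws W z` abelian and not commuting):
* `Pair.o2_eq`: `O₂(C_G(z)) = ws V z ws W z`;
* `Pair.large`: this group is extraspecial with centre `⟨z⟩` (`Co2Type.Quad.Large`);
* `Pair.extra`, `Pair.not_irr`: the same in the terms of `Omega.Exits`: `Extra z n`, `¬ Irr z`;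
* `Pair.known`: the conclusion (from S1759 and S1761).
-/

set_option autoImplicit false
set_option linter.style.haveILetI false
set_option linter.unusedSectionVars false

namespace Cfsg.Agent.Omega.CaseL

open Subgroup Cfsg Cfsg.Agent.ZN Cfsg.Agent.MinSimple.Geo Cfsg.Agent.Co2Type.Quad
open Cfsg.Agent.ZN.Block (conj_mem_of_normalizer conj_mem_of_normalizer' le_normalizer_of_forall
  mem_normalizer_of)

universe u

variable {G : Type u} [Group G]

namespace Pair

variable {T V W : Subgroup G} {z : G} [Finite G]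

theorem comm_ab (h : Pair T V W z) {a b : G} (ha : a ∈ ws V z) (hb : b ∈ ws W z) :
    b * a = a * b ∨ b * a = z * (a * b) := h.w.comm_cases hb (h.v.ws_le_o2 ha)

theorem z_commV (h : Pair T V W z) {a : G} (ha : a ∈ ws V z) : a * z = z * a :=
  mem_centralizer_singleton_iff.mp (h.v.ws_le_centralizer ha)

theorem z_commW (h : Pair T V W z) {a : G} (ha : a ∈ ws W z) : a * z = z * a :=
  mem_centralizer_singleton_iff.mp (h.w.ws_le_centralizer ha)

/-- the product of `ws V z` and `ws W z` -/
def ee (h : Pair T V W z) : Subgroup G where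
  carrier := {x | ∃ a ∈ ws V z, ∃ b ∈ ws W z, x = a * b}
  mul_mem' := by
    rintro _ _ ⟨a, ha, b, hb, rfl⟩ ⟨c, hc, d, hd, rfl⟩
    rcases h.comm_ab hc hb with e | e
    · refine ⟨a * c, mul_mem ha hc, b * d, mul_mem hb hd, ?_⟩
      calc a * b * (c * d) = a * (b * c) * d := by group
        _ = a * (c * b) * d := by rw [e]
        _ = a * c * (b * d) := by group
    · refine ⟨a * z * c, mul_mem (mul_mem ha h.z_memV) hc, b * d, mul_mem hb hd, ?_⟩
      calc a * b * (c * d) = a * (b * c) * d := by group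
        _ = a * (z * (c * b)) * d := by rw [e]
        _ = a * z * c * (b * d) := by group
  one_mem' := ⟨1, one_mem _, 1, one_mem _, (mul_one 1).symm⟩
  inv_mem' := by
    rintro _ ⟨a, ha, b, hb, rfl⟩
    have ha' := h.sqV a ha
    have hb' := h.sqW b hb
    have e0 : (a * b)⁻¹ = b * a := by
      rw [mul_inv_rev, inv_eq_self ha', inv_eq_self hb']
    rcases h.comm_ab ha hb with e | e
    · exact ⟨a, ha, b, hb, by rw [e0, e]⟩
    · exact ⟨z * a, mul_mem h.z_memV ha, b, hb, by rw [e0, e, mul_assoc]⟩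

theorem mem_ee (h : Pair T V W z) {x : G} : x ∈ h.ee ↔ ∃ a ∈ ws V z, ∃ b ∈ ws W z, x = a * b := Iff.rfl

theorem V_le_ee (h : Pair T V W z) : ws V z ≤ h.ee := fun a ha => ⟨a, ha, 1, one_mem _, (mul_one a).symm⟩

theorem W_le_ee (h : Pair T V W z) : ws W z ≤ h.ee := fun a ha => ⟨1, one_mem _, a, ha, (one_mul a).symm⟩

theorem ee_eq (h : Pair T V W z) : h.ee = ws V z ⊔ ws W z := by
  refine le_antisymm ?_ (sup_le h.V_le_ee h.W_le_ee)
  rintro _ ⟨a, ha, b, hb, rfl⟩
  exact mul_mem (mem_sup_left ha) (mem_sup_right hb)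

theorem ee_le_o2 (h : Pair T V W z) : h.ee ≤ o2 (centralizer ({z} : Set G)) := by
  rw [h.ee_eq]
  exact sup_le h.v.ws_le_o2 h.w.ws_le_o2

theorem o2_z (_ : Pair T V W z) {x : G} (hx : x ∈ o2 (centralizer ({z} : Set G))) : x * z = z * x :=
  mem_centralizer_singleton_iff.mp (Block.o2_le _ hx)

/-- `[E, O₂(C_G(z))] ≤ ⟨z⟩` -/
theorem comm_ee (h : Pair T V W z) {x q : G} (hx : x ∈ h.ee) (hq : q ∈ o2 (centralizer ({z} : Set G))) :
    x * q = q * x ∨ x * q = q * x * z := by
  obtain ⟨a, ha, b, hb, rfl⟩ := hx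
  have hqz := h.o2_z hq
  have haz := h.z_commV ha
  have hbz := h.z_commW hb
  have hzz := h.v.zz
  rcases h.v.comm_cases ha hq with e1 | e1 <;> rcases h.w.comm_cases hb hq with e2 | e2
  · left
    rw [mul_assoc, e2, ← mul_assoc, e1, mul_assoc]
  · right
    calc a * b * q = a * (b * q) := by group
      _ = (a * z) * (q * b) := by rw [e2]; group
      _ = z * (a * q) * b := by rw [haz]; group
      _ = (z * q) * (a * b) := by rw [e1]; group
      _ = q * (z * a) * b := by rw [← hqz]; group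
      _ = q * a * (z * b) := by rw [← haz]; group
      _ = q * (a * b) * z := by rw [← hbz]; group
  · right
    calc a * b * q = a * (b * q) := by group
      _ = (a * q) * b := by rw [e2]; group
      _ = (z * q) * (a * b) := by rw [e1]; group
      _ = q * (z * a) * b := by rw [← hqz]; group
      _ = q * a * (z * b) := by rw [← haz]; group
      _ = q * (a * b) * z := by rw [← hbz]; group
  · left
    calc a * b * q = a * (b * q) := by group
      _ = (a * z) * (q * b) := by rw [e2]; group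
      _ = z * (a * q) * b := by rw [haz]; group
      _ = (z * z) * q * (a * b) := by rw [e1]; group
      _ = q * (a * b) := by rw [hzz, one_mul]

/-- an element commuting with `E` is in `⟨z⟩` -/
theorem cent_ee (h : Pair T V W z) {c : G} (hc : ∀ x ∈ h.ee, c * x = x * c) : c = 1 ∨ c = z := by
  obtain ⟨h1, h2⟩ := h.cent_ab (fun a ha => hc a (h.V_le_ee ha)) (fun a ha => hc a (h.W_le_ee ha))
  exact h.f_eq h1 h2

theorem large_ee (h : Pair T V W z) : Large h.ee z where
  z_mem := h.V_le_ee h.z_memV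
  z_ne := h.v.z_ne
  z_sq := h.v.zz
  comm_z := fun x hx => h.o2_z (h.ee_le_o2 hx)
  conj_mem := by
    rintro g hg _ ⟨a, ha, b, hb, rfl⟩
    have hgC : g ∈ centralizer ({z} : Set G) := mem_centralizer_singleton_iff.mpr hg
    refine ⟨g * a * g⁻¹, conj_mem_of_normalizer (centralizer_le_normalizer_ws V z) hgC ha,
      g * b * g⁻¹, conj_mem_of_normalizer (centralizer_le_normalizer_ws W z) hgC hb, ?_⟩
    group
  sq := by
    rintro _ ⟨a, ha, b, hb, rfl⟩
    have ha' := h.sqV a ha
    have hb' := h.sqW b hb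
    rcases h.comm_ab ha hb with e | e
    · left
      calc a * b * (a * b) = a * (b * a) * b := by group
        _ = (a * a) * (b * b) := by rw [e]; group
        _ = 1 := by rw [ha', hb', mul_one]
    · right
      calc a * b * (a * b) = a * (b * a) * b := by group
        _ = (a * z) * a * (b * b) := by rw [e]; group
        _ = z * (a * a) * (b * b) := by rw [h.z_commV ha]; group
        _ = z := by rw [ha', hb', mul_one, mul_one]
  comm := fun x hx y hy => h.comm_ee hx (h.ee_le_o2 hy)
  cent := fun x _ hc => h.cent_ee hc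
  self := by
    intro g _ hc
    rcases h.cent_ee hc with e | e
    · rw [e]; exact one_mem _
    · rw [e]; exact h.V_le_ee h.z_memV

/-- `O₂(C_G(z)) = ws V z ws W z` -/
theorem o2_eq_ee (h : Pair T V W z) : o2 (centralizer ({z} : Set G)) = h.ee := by
  refine le_antisymm ?_ h.ee_le_o2
  intro q hq
  have L := h.large_ee
  refine L.mem_of_act ⟨q, Block.o2_le _ hq⟩ ?_
  ext v
  obtain ⟨x, rfl⟩ := L.pr_surjective v
  rw [L.act_pr]
  change L.pr (L.conjQ _ x) = L.pr x
  rw [L.pr_eq_pr, Large.conjQ_coe]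
  rcases h.comm_ee x.2 hq with e | e
  · left
    change q * (x : G) * q⁻¹ = x
    rw [← e]; group
  · right
    change q * (x : G) * q⁻¹ = x * z
    have hqz := h.o2_z hq
    have hzz := h.v.zz
    have hqz' : q⁻¹ * z = z * q⁻¹ := inv_comm_of hqz
    have e1 : q * (x : G) = x * q * z := by
      calc q * (x : G) = q * x * (z * z) := by rw [hzz, mul_one]
        _ = (q * x * z) * z := by group
        _ = x * q * z := by rw [← e]
    rw [e1, mul_assoc, ← hqz', ← mul_assoc, mul_inv_cancel_right]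

theorem o2_eq (h : Pair T V W z) : o2 (centralizer ({z} : Set G)) = ws V z ⊔ ws W z := by
  rw [h.o2_eq_ee, h.ee_eq]

/-- **`O₂(C_G(z))` is a large extraspecial subgroup** -/
theorem large (h : Pair T V W z) : Large (o2 (centralizer ({z} : Set G))) z := by
  rw [h.o2_eq_ee]; exact h.large_ee

end Pair

/-! ### the exits -/

/-- `T` is a Sylow 2-subgroup of `G`. -/
theorem Ln.not_dvd_index [Finite G] {T V : Subgroup G} {z : G} (h : Ln T V z) : ¬ 2 ∣ T.index := by
  haveI : Fact (Nat.Prime 2) := ⟨Nat.prime_two⟩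
  obtain ⟨P, hTP⟩ := h.two.exists_le_sylow
  have hPT : (P : Subgroup G) ≤ T := by
    by_contra hlt
    have hne : T.subgroupOf (P : Subgroup G) ≠ ⊤ := fun e => hlt (subgroupOf_eq_top.mp e)
    haveI : Group.IsNilpotent (P : Subgroup G) := P.2.isNilpotent
    have hnc := Group.normalizerCondition_of_isNilpotent (G := (P : Subgroup G))
      (T.subgroupOf (P : Subgroup G)) (lt_top_iff_ne_top.mpr hne)
    obtain ⟨g, hg, hgT⟩ := SetLike.exists_of_lt hnc
    have hgT' : (g : G) ∉ T := fun e => hgT (mem_subgroupOf.mpr e)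
    have hgn : ∀ t ∈ T, (g : G) * t * (g : G)⁻¹ ∈ T := by
      intro t ht
      have h1 := (mem_normalizer_iff.mp hg ⟨t, hTP ht⟩).mp (mem_subgroupOf.mpr ht)
      exact mem_subgroupOf.mp h1
    have hgn' : ∀ t ∈ T, (g : G)⁻¹ * t * (g : G) ∈ T := by
      intro t ht
      have h1 := (mem_normalizer_iff''.mp hg ⟨t, hTP ht⟩).mp (mem_subgroupOf.mpr ht)
      exact mem_subgroupOf.mp h1
    have hgz : (g : G) * z * (g : G)⁻¹ = z := by
      have hzT : z ∈ T := h.V_le h.z_mem
      rcases h.soc _ (hgn z hzT) (by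
        calc (g : G) * z * (g : G)⁻¹ * ((g : G) * z * (g : G)⁻¹) = g * (z * z) * (g : G)⁻¹ := by group
          _ = 1 := by rw [h.zz]; group) (fun s hs => by
        have h1 := h.z_comm (h.T_le (hgn' s hs))
        calc s * ((g : G) * z * (g : G)⁻¹) = g * (((g : G)⁻¹ * s * g) * z) * (g : G)⁻¹ := by group
          _ = g * (z * ((g : G)⁻¹ * s * g)) * (g : G)⁻¹ := by rw [h1]
          _ = (g : G) * z * (g : G)⁻¹ * s := by group) with e | e
      · exfalso
        apply h.z_ne
        calc z = (g : G)⁻¹ * ((g : G) * z * (g : G)⁻¹) * g := by group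
          _ = 1 := by rw [e]; group
      · exact e
    have hgC : (g : G) ∈ centralizer ({z} : Set G) :=
      mem_centralizer_singleton_iff.mpr (comm_of_conj_eq hgz)
    set K := T ⊔ zpowers (g : G) with hK
    have hKC : K ≤ centralizer ({z} : Set G) := sup_le h.T_le (by simpa using hgC)
    have hKP : K ≤ (P : Subgroup G) := sup_le hTP (by simp)
    have hK2 : IsPGroup 2 K := P.2.to_le hKP
    have h1 := relIndex_mul_relIndex T K (centralizer ({z} : Set G)) le_sup_left hKC
    have h2 : ¬ 2 ∣ T.relIndex K := fun e => h.T_syl (h1 ▸ e.mul_right _)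
    have h3 : T.relIndex K = 1 := by
      obtain ⟨n, hn⟩ := IsPGroup.iff_card.mp hK2
      have h4 : T.relIndex K ∣ 2 ^ n := by
        rw [← hn]
        exact Dvd.intro_left _ (Block.card_mul_relIndex' (le_sup_left : T ≤ K))
      obtain ⟨m, -, hm⟩ := (Nat.dvd_prime_pow Nat.prime_two).mp h4
      rcases Nat.eq_zero_or_pos m with e | e
      · rw [hm, e, pow_zero]
      · exact absurd (hm ▸ dvd_pow_self 2 (by omega)) h2
    exact hgT' (relIndex_eq_one.mp h3 (mem_sup_right (mem_zpowers _)))
  have : T = P := le_antisymm hTP hPT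
  rw [this]
  exact P.not_dvd_index

namespace Pair

open Cfsg.Agent.Omega.Exits

variable {T V W : Subgroup G} {z : G} [Finite G]

theorem orderOf_z (h : Pair T V W z) : orderOf z = 2 :=
  orderOf_eq_prime (by rw [pow_two]; exact h.v.zz) h.v.z_ne

/-- an isomorphism of `O₂(C_G(z))` as subgroup of `G` with the subgroup of `C_G(z)` -/
noncomputable def o2Equiv (z : G) :
    ↥(o2 (centralizer ({z} : Set G))) ≃* ↥(pCore 2 ↥(centralizer ({z} : Set G))) :=
  ((pCore 2 ↥(centralizer ({z} : Set G))).equivMapOfInjective _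
    (centralizer ({z} : Set G)).subtype_injective).symm

theorem isExtraspecial (h : Pair T V W z) : IsExtraspecial 2 ↥(o2 (centralizer ({z} : Set G))) := by
  have L := h.large
  refine Cfsg.Agent.J2.ExtQuot.isExtraspecial_two (Block.o2_isPGroup _) L.card_center ?_ ?_
  · intro x
    rw [L.mem_center]
    rcases L.sq x x.2 with e | e
    · left; simpa [pow_two] using e
    · right; simpa [pow_two] using e
  · obtain ⟨a, ha, b, hb, hab⟩ := h.nc
    exact ⟨⟨a, h.v.ws_le_o2 ha⟩, ⟨b, h.w.ws_le_o2 hb⟩, fun e => hab (congrArg Subtype.val e)⟩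

/-- **`O₂(C_G(z))` is extraspecial**, in the form of `Omega.Exits`. -/
theorem extra (h : Pair T V W z) : ∃ n, 1 ≤ n ∧ Extra z n ∧
    Nat.card ↥(o2 (centralizer ({z} : Set G))) = 2 ^ (2 * n + 1) := by
  have hE := h.isExtraspecial
  obtain ⟨n, hn, hc⟩ := Transfer.Extraspecial.exists_card_eq Nat.prime_two hE
  refine ⟨n, hn, ⟨h.orderOf_z, Cfsg.Agent.J2.ExtQuot.isExtraspecial_of_equiv (o2Equiv z) hE, ?_⟩, hc⟩
  rw [← hc]
  exact (Nat.card_congr (o2Equiv z).toEquiv).symm

/-- `C_G(z)` is reducible on `O₂(C_G(z))/⟨z⟩`. -/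
theorem not_irr (h : Pair T V W z) : ¬ Irr z := by
  intro hi
  set C := centralizer ({z} : Set G) with hC
  have hAC : ws V z ≤ C := h.v.ws_le_centralizer
  have hn : ((ws V z).subgroupOf C).Normal :=
    normal_subgroupOf_of_le_normalizer (centralizer_le_normalizer_ws V z)
  have h1 : zpowers (⟨z, mem_centralizer_singleton_iff.mpr rfl⟩ : ↥C) ≤ (ws V z).subgroupOf C := by
    rw [zpowers_le, mem_subgroupOf]
    exact h.z_memV
  have h2 : (ws V z).subgroupOf C ≤ pCore 2 ↥C := by
    intro x hx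
    obtain ⟨y, hy, hyx⟩ := h.v.ws_le_o2 (mem_subgroupOf.mp hx)
    have : y = x := Subtype.ext hyx
    rw [← this]; exact hy
  rcases hi _ hn h1 h2 with e | e
  · obtain ⟨y, hy, hy1, hyz⟩ := h.v.exists_y
    have hyA := h.v.V_le_ws hy
    have h3 : (⟨y, hAC hyA⟩ : ↥C) ∈ (ws V z).subgroupOf C := mem_subgroupOf.mpr hyA
    rw [e, mem_zpowers_iff] at h3
    obtain ⟨k, hk⟩ := h3
    have h4 : z ^ k = y := congrArg Subtype.val hk
    rcases (mem_zpowers_iff_of_mul_self h.v.zz).mp (mem_zpowers_iff.mpr ⟨k, h4⟩) with h5 | h5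
    · exact hy1 h5
    · exact hyz h5
  · obtain ⟨a, ha, b, hb, hab⟩ := h.nc
    obtain ⟨y, hy, hyb⟩ := h.w.ws_le_o2 hb
    rw [SetLike.mem_coe, ← e, mem_subgroupOf] at hy
    have : b ∈ ws V z := by rw [← hyb]; exact hy
    exact hab (h.abV a ha b this)

/-- if `|O₂(C_G(z))| = 8` then `T` has order 8 -/
theorem card_T (h : Pair T V W z) (h8 : Nat.card ↥(o2 (centralizer ({z} : Set G))) = 8) :
    Nat.card T ∣ 8 := by
  have hcard := Block.card_sup_mul_card_inf (H := ws W z) (N := ws V z)
    (h.w.ws_le_centralizer.trans (centralizer_le_normalizer_ws V z))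
  have hinf : ws W z ⊓ ws V z = zpowers z := by
    apply le_antisymm
    · rintro x ⟨hx1, hx2⟩
      rw [mem_zpowers_iff_of_mul_self h.v.zz]
      exact h.f_eq hx2 hx1
    · rw [zpowers_le]
      exact ⟨h.z_memW, h.z_memV⟩
  have hV4 : 4 ∣ Nat.card (ws V z) := by rw [← h.v.card_V]; exact card_dvd_of_le h.v.V_le_ws
  have hW4 : 4 ∣ Nat.card (ws W z) := by rw [← h.w.card_V]; exact card_dvd_of_le h.w.V_le_ws
  rw [sup_comm, ← h.o2_eq, h8, hinf, Nat.card_zpowers, h.orderOf_z] at hcard
  have hVpos : 0 < Nat.card (ws V z) := Nat.card_pos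
  have hWpos : 0 < Nat.card (ws W z) := Nat.card_pos
  have hA4 : Nat.card (ws V z) = 4 ∧ Nat.card (ws W z) = 4 := by
    have h1 := Nat.le_of_dvd hVpos hV4
    have h2 := Nat.le_of_dvd hWpos hW4
    constructor <;> nlinarith
  have hAV : V = ws V z := eq_of_le_of_card_ge h.v.V_le_ws (by rw [hA4.1, h.v.card_V])
  have hBW : W = ws W z := eq_of_le_of_card_ge h.w.V_le_ws (by rw [hA4.2, h.w.card_V])
  have L := h.large
  have hle : T ≤ o2 (centralizer ({z} : Set G)) := by
    intro t ht
    refine L.mem_of_act ⟨t, h.v.T_le ht⟩ ?_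
    ext v
    obtain ⟨x, rfl⟩ := L.pr_surjective v
    rw [L.act_pr]
    change L.pr (L.conjQ _ x) = L.pr x
    rw [L.pr_eq_pr, Large.conjQ_coe]
    obtain ⟨a, ha, b, hb, hx⟩ := h.o2_eq_ee.le x.2
    rw [← hAV] at ha
    rw [← hBW] at hb
    change t * (x : G) * t⁻¹ = x ∨ t * (x : G) * t⁻¹ = x * z
    have htz := h.v.z_comm (h.v.T_le ht)
    have hxz : (x : G) * z = z * x := L.comm_z x x.2
    have hzz := h.v.zz
    have haz := h.v.comm ha h.v.z_mem
    have hbz := h.w.comm hb h.w.z_mem
    have e0 : t * (x : G) * t⁻¹ = (t * a * t⁻¹) * (t * b * t⁻¹) := by rw [hx]; group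
    rcases h.v.conj_cases h.v.z_mem ha h.v.z_ne htz (h.v.T_norm ht) with e1 | e1 <;>
      rcases h.w.conj_cases h.w.z_mem hb h.w.z_ne htz (h.w.T_norm ht) with e2 | e2
    · left; rw [e0, e1, e2, hx]
    · right
      rw [e0, e1, e2, hx]
      calc a * (z * b) = a * (b * z) := by rw [hbz]
        _ = a * b * z := by group
    · right
      rw [e0, e1, e2, hx]
      calc z * a * b = a * (z * b) := by rw [← haz]; group
        _ = a * (b * z) := by rw [hbz]
        _ = a * b * z := by group
    · left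
      rw [e0, e1, e2, hx]
      calc z * a * (z * b) = z * (a * z) * b := by group
        _ = (z * z) * (a * b) := by rw [haz]; group
        _ = a * b := by rw [hzz, one_mul]
  rw [← h8]
  exact card_dvd_of_le hle

/-- **CASE L, q = 2**: two types of lines with `ws V z`, `ws W z` abelian and not commuting, `G` simple of
sectional 2-rank at least 5: `G` is known (`L_n(2)`, `M₂₄`, `He`; S1759 for `n = 2`). -/
theorem known (h : Pair T V W z) [IsSimpleGroup G] (hna : ¬ IsMulCommutative G)
    (h59 : St1759.{u}) (h61 : St1761.{u}) (hs : ¬ SectionalPRankLE 2 4 G) : IsKnownSimple' G := by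
  obtain ⟨n, hn, hE, hc⟩ := h.extra
  have hct := h.v.charTwo
  rcases (by omega : n = 1 ∨ n = 2 ∨ 3 ≤ n) with e | e | e
  · exfalso
    subst e
    have h8 := h.card_T (by rw [hc]; norm_num)
    have h32 := dvd_card hs
    have h1 := T.card_mul_index
    have h2 : ¬ 2 ∣ T.index := h.v.not_dvd_index
    rw [← h1] at h32
    have h3 : Nat.Coprime 32 T.index := by
      rw [show (32 : ℕ) = 2 ^ 5 by norm_num]
      exact Nat.Coprime.pow_left _ ((Nat.Prime.coprime_iff_not_dvd Nat.prime_two).mpr h2)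
    have h4 := Nat.Coprime.dvd_of_dvd_mul_right h3 h32
    have h5 := Nat.le_of_dvd (by norm_num) (h4.trans h8)
    omega
  · subst e
    exact hE.known_two hct hna h59
  · rcases hE.known_or_irr hct h61 e with h1 | h1
    · exact h1
    · exact absurd h1 h.not_irr

end Pair

end Cfsg.Agent.Omega.CaseL
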